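import Groth.Prelude.Def_GrassD
import Groth.Agent.LocFree.Basic

/-!
# Base change of quotients: composition rules for `Grass.quotBC`, steps of flag schemes
-/

set_option autoImplicit false

universe u

open CategoryTheory CategoryTheory.Limits AlgebraicGeometry

noncomputable section

namespace Groth.GrassRep

variable {X G T T' : Scheme.{u}} {π : G ⟶ X} {E : X.Modules} {Q : G.Modules}

lemma pullbackComp_assoc_app {W : Scheme.{u}} (f : T' ⟶ T) (g : T ⟶ G) (h : G ⟶ W) (M : W.Modules)
    (e : (f ≫ g) ≫ h = f ≫ g ≫ h) :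
    (Scheme.Modules.pullbackComp f (g ≫ h)).inv.app M ≫
        (Scheme.Modules.pullback f).map ((Scheme.Modules.pullbackComp g h).inv.app M) =
      (Scheme.Modules.pullbackCongr e).inv.app M ≫
        (Scheme.Modules.pullbackComp (f ≫ g) h).inv.app M ≫
          (Scheme.Modules.pullbackComp f g).inv.app ((Scheme.Modules.pullback h).obj M) := by
  have h1 := congrArg (fun α => NatTrans.app α M)
    (Scheme.Modules.pseudofunctor_associativity (f := f) (g := g) (h := h))
  simp only [NatTrans.comp_app, Functor.whiskerRight_app, Functor.whiskerLeft_app,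
    Functor.associator_hom_app, Category.id_comp, eqToHom_app] at h1
  have h2 : (Scheme.Modules.pullbackCongr e).inv.app M = eqToHom (by rw [e]) := by
    simp [Scheme.Modules.pullbackCongr, eqToHom_app]
  rw [h2, ← cancel_mono ((Scheme.Modules.pullbackComp f g).hom.app ((Scheme.Modules.pullback h).obj M)),
    ← cancel_mono ((Scheme.Modules.pullbackComp (f ≫ g) h).hom.app M)]
  simp only [Category.assoc]
  refine h1.trans ?_
  simp

lemma pullbackCongr_rfl_inv {f : T ⟶ G} (M : G.Modules) :
    (Scheme.Modules.pullbackCongr (rfl : f = f)).inv.app M = 𝟙 _ := by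
  simp [Scheme.Modules.pullbackCongr]

lemma pullbackCongr_trans_inv {a b c : T ⟶ G} (h₁ : a = b) (h₂ : b = c) (M : G.Modules) :
    (Scheme.Modules.pullbackCongr h₂).inv.app M ≫ (Scheme.Modules.pullbackCongr h₁).inv.app M =
      (Scheme.Modules.pullbackCongr (h₁.trans h₂)).inv.app M := by
  subst h₁ h₂
  simp [pullbackCongr_rfl_inv]

/-- base change of the base change of a quotient -/
lemma quotBC_quotBC {h : T' ⟶ T} {a : T ⟶ G} {g : T ⟶ X} {g' : T' ⟶ X} (hh : h ≫ g = g')
    (hg : a ≫ π = g) (q : (Scheme.Modules.pullback π).obj E ⟶ Q) :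
    Grass.quotBC hh (Grass.quotBC hg q) =
      Grass.quotBC (show (h ≫ a) ≫ π = g' by rw [Category.assoc, hg, hh]) q ≫
        (Scheme.Modules.pullbackComp h a).inv.app Q := by
  subst hg hh
  simp only [Grass.quotBC, pullbackCongr_rfl_inv, Category.id_comp, Functor.map_comp, Category.assoc]
  rw [(Scheme.Modules.pullbackComp h a).inv.naturality q]
  exact (reassoc_of% pullbackComp_assoc_app h a π E (Category.assoc _ _ _)) _

lemma quotBC_comp {h : T ⟶ G} {g : T ⟶ X} (hg : h ≫ π = g) {Q' : G.Modules}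
    (q : (Scheme.Modules.pullback π).obj E ⟶ Q) (t : Q ⟶ Q') :
    Grass.quotBC hg (q ≫ t) = Grass.quotBC hg q ≫ (Scheme.Modules.pullback h).map t := by
  simp [Grass.quotBC, Functor.map_comp]

lemma quotBC_congr {h h' : T ⟶ G} (e : h = h') {g : T ⟶ X} (hg : h ≫ π = g)
    (q : (Scheme.Modules.pullback π).obj E ⟶ Q) :
    Grass.quotBC hg q = Grass.quotBC (e ▸ hg : h' ≫ π = g) q ≫
      (Scheme.Modules.pullbackCongr e).inv.app Q := by
  subst e
  simp [pullbackCongr_rfl_inv]

lemma epi_quotBC {h : T ⟶ G} {g : T ⟶ X} (hg : h ≫ π = g) (q : (Scheme.Modules.pullback π).obj E ⟶ Q)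
    [Epi q] : Epi (Grass.quotBC hg q) := by
  have := Grass.epi_pullback_map h q
  infer_instance

/-- isomorphisms of quotients transport along base change -/
lemma quotBC_base_change {h : T' ⟶ T} {a : T ⟶ G} {g : T ⟶ X} {g' : T' ⟶ X} (hh : h ≫ g = g')
    (hg : a ≫ π = g) (q : (Scheme.Modules.pullback π).obj E ⟶ Q) {L : T.Modules}
    (s : (Scheme.Modules.pullback g).obj E ⟶ L) (e : (Scheme.Modules.pullback a).obj Q ≅ L)
    (he : Grass.quotBC hg q ≫ e.hom = s) :
    Grass.quotBC (show (h ≫ a) ≫ π = g' by rw [Category.assoc, hg, hh]) q ≫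
        ((Scheme.Modules.pullbackComp h a).inv.app Q ≫ (Scheme.Modules.pullback h).map e.hom) =
      Grass.quotBC hh s := by
  rw [← Category.assoc, ← quotBC_quotBC hh hg q, ← quotBC_comp, he]

variable {m : ℕ} {n : Fin (m + 2) → ℕ}

/-- the last step of a flag scheme is a Grassmannian -/
theorem isGrass_lift {F F' : Scheme.{u}} {π : F ⟶ X} {π' : F' ⟶ X}
    {Q : Fin (m + 1) → F.Modules} {q : ∀ i, (Scheme.Modules.pullback π).obj E ⟶ Q i}
    (hF : Grass.IsFlag π E (fun i => n (Fin.castSucc i)) Q q)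
    {Q' : Fin (m + 2) → F'.Modules} {q' : ∀ i, (Scheme.Modules.pullback π').obj E ⟶ Q' i}
    (hF' : Grass.IsFlag π' E n Q' q') (ρ : F' ⟶ F) (hρ : ρ ≫ π = π')
    (ι : ∀ i, (Scheme.Modules.pullback ρ).obj (Q i) ≅ Q' (Fin.castSucc i))
    (hι : ∀ i, Grass.quotBC hρ (q i) ≫ (ι i).hom = q' (Fin.castSucc i))
    (t : Q' (Fin.castSucc (Fin.last m)) ⟶ Q' (Fin.last (m + 1)))
    (ht : q' (Fin.castSucc (Fin.last m)) ≫ t = q' (Fin.last (m + 1))) :
    Grass.IsGrass ρ (Q (Fin.last m)) (n (Fin.last (m + 1))) (Q' (Fin.last (m + 1)))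
      ((ι (Fin.last m)).hom ≫ t) where
  rank := hF'.rank _
  epi := by
    have : Epi (q' (Fin.castSucc (Fin.last m)) ≫ t) := by rw [ht]; exact hF'.epi _
    have : Epi t := epi_of_epi (q' (Fin.castSucc (Fin.last m))) t
    exact epi_comp _ _
  univ T g L hL s hs := by
    set g₀ := g ≫ π
    let Ls : Fin (m + 2) → T.Modules := Fin.lastCases L fun i => (Scheme.Modules.pullback g).obj (Q i)
    have eC : ∀ i, Ls (Fin.castSucc i) = (Scheme.Modules.pullback g).obj (Q i) := fun i => Fin.lastCases_castSucc i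
    have eL : Ls (Fin.last (m + 1)) = L := Fin.lastCases_last
    -- the classified family
    let sC : ∀ i, (Scheme.Modules.pullback g₀).obj E ⟶ (Scheme.Modules.pullback g).obj (Q i) := fun i => Grass.quotBC rfl (q i)
    let sL : (Scheme.Modules.pullback g₀).obj E ⟶ L := sC (Fin.last m) ≫ s
    let ss : ∀ i, (Scheme.Modules.pullback g₀).obj E ⟶ Ls i :=
      Fin.lastCases (sL ≫ eqToHom eL.symm) fun i => sC i ≫ eqToHom (eC i).symm
    have ssC : ∀ i, ss (Fin.castSucc i) = sC i ≫ eqToHom (eC i).symm := fun i => Fin.lastCases_castSucc i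
    have ssL : ss (Fin.last (m + 1)) = sL ≫ eqToHom eL.symm := Fin.lastCases_last
    have hrank : ∀ i, FlatMod.IsFinLocFreeOfRank (n i) (Ls i) := by
      intro i
      refine Fin.lastCases ?_ (fun j => ?_) i
      · rw [eL]; exact hL
      · rw [eC]
        exact Groth.LocFree.isFinLocFreeOfRank_pullback g (hF.rank j)
    have hepi : ∀ i, Epi (ss i) := by
      intro i
      refine Fin.lastCases ?_ (fun j => ?_) i
      · rw [ssL]
        have := hF.epi (Fin.last m)
        have := epi_quotBC (rfl : g ≫ π = g₀) (q (Fin.last m))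
        have := hs
        infer_instance
      · rw [ssC]
        have := hF.epi j
        have := epi_quotBC (rfl : g ≫ π = g₀) (q j)
        infer_instance
    have hnest : ∀ i j, i ≤ j → ∃ u : Ls i ⟶ Ls j, ss i ≫ u = ss j := by
      intro i
      refine Fin.lastCases ?_ (fun a => ?_) i
      · intro j hj
        rw [Fin.last_le_iff.mp hj]
        exact ⟨𝟙 _, Category.comp_id _⟩
      · intro j
        refine Fin.lastCases ?_ (fun b => ?_) j
        · intro _
          obtain ⟨u, hu⟩ := hF.nested a (Fin.last m) (Fin.le_last _)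
          refine ⟨eqToHom (eC a) ≫ (Scheme.Modules.pullback g).map u ≫ s ≫ eqToHom eL.symm, ?_⟩
          rw [ssC, ssL, Category.assoc, eqToHom_trans_assoc, eqToHom_refl, Category.id_comp,
            ← Category.assoc (sC a), ← quotBC_comp, hu, ← Category.assoc]
        · intro hj
          obtain ⟨u, hu⟩ := hF.nested a b (Fin.castSucc_le_castSucc_iff.mp hj)
          refine ⟨eqToHom (eC a) ≫ (Scheme.Modules.pullback g).map u ≫ eqToHom (eC b).symm, ?_⟩
          rw [ssC, ssC, Category.assoc, eqToHom_trans_assoc, eqToHom_refl, Category.id_comp,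
            ← Category.assoc (sC a), ← quotBC_comp, hu]
    obtain ⟨h, ⟨hh, e, he⟩, huniq⟩ := hF'.univ T g₀ Ls hrank ss hepi hnest
    -- composites with `ρ`
    have hsub : ∀ (h : T ⟶ F') (hh : h ≫ π' = g₀) (i : Fin (m + 1)),
        Grass.quotBC (show (h ≫ ρ) ≫ π = g₀ by rw [Category.assoc, hρ, hh]) (q i) ≫
          ((Scheme.Modules.pullbackComp h ρ).inv.app (Q i) ≫ (Scheme.Modules.pullback h).map (ι i).hom) =
            Grass.quotBC hh (q' (Fin.castSucc i)) := fun h hh i =>
      quotBC_base_change hh hρ (q i) _ (ι i) (hι i)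
    have hρh : h ≫ ρ = g := by
      have huF := hF.univ T g₀ (fun i => (Scheme.Modules.pullback g).obj (Q i)) (fun i => Groth.LocFree.isFinLocFreeOfRank_pullback g (hF.rank i))
        sC (fun i => by have := hF.epi i; exact epi_quotBC _ _)
        (fun a b hab => by
          obtain ⟨u, hu⟩ := hF.nested a b hab
          exact ⟨(Scheme.Modules.pullback g).map u, by rw [← quotBC_comp, hu]⟩)
      refine huF.unique ⟨by rw [Category.assoc, hρ, hh],
        fun i => ((Scheme.Modules.pullbackComp h ρ).app (Q i)).symm ≪≫ (Scheme.Modules.pullback h).mapIso (ι i) ≪≫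
          e (Fin.castSucc i) ≪≫ eqToIso (eC i), fun i => ?_⟩ ⟨rfl, fun i => Iso.refl _, fun i => Category.comp_id _⟩
      simp only [Iso.trans_hom, Iso.symm_hom, Iso.app_inv, Functor.mapIso_hom, eqToIso.hom]
      rw [← Category.assoc _ _ ((e _).hom ≫ _), ← Category.assoc (Grass.quotBC _ _), hsub h hh i,
        ← Category.assoc, he, ssC, Category.assoc, eqToHom_trans, eqToHom_refl, Category.comp_id]
    -- key equation
    have hkey : ∀ (h : T ⟶ F') (hh : h ≫ π' = g₀) (hg : h ≫ ρ = g),
        sC (Fin.last m) ≫ Grass.quotBC hg ((ι (Fin.last m)).hom ≫ t) =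
          Grass.quotBC hh (q' (Fin.last (m + 1))) := by
      intro h hh hg
      subst hg
      rw [quotBC_comp, ← ht, quotBC_comp hh, ← hsub h hh]
      simp only [sC, Grass.quotBC, pullbackCongr_rfl_inv, Category.id_comp, Category.assoc]
    have := hF.epi (Fin.last m)
    have hepiC : Epi (sC (Fin.last m)) := epi_quotBC _ _
    refine ⟨h, ⟨hρh, e (Fin.last (m + 1)) ≪≫ eqToIso eL, ?_⟩, ?_⟩
    · rw [← cancel_epi (sC (Fin.last m)), ← Category.assoc, hkey h hh hρh, Iso.trans_hom,
        ← Category.assoc, he, ssL, eqToIso.hom, Category.assoc, eqToHom_trans, eqToHom_refl, Category.comp_id]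
    · rintro h' ⟨hg', e', he'⟩
      have hh' : h' ≫ π' = g₀ := by rw [← hρ, ← Category.assoc, hg']
      refine huniq h' ⟨hh', Fin.lastCases (e' ≪≫ eqToIso eL.symm)
        (fun i => (Scheme.Modules.pullback h').mapIso (ι i).symm ≪≫ (Scheme.Modules.pullbackComp h' ρ).app (Q i) ≪≫
          (Scheme.Modules.pullbackCongr hg').app (Q i) ≪≫ eqToIso (eC i).symm), fun i => ?_⟩
      refine Fin.lastCases ?_ (fun j => ?_) i
      · simp only [Fin.lastCases_last]
        rw [ssL, Iso.trans_hom, eqToIso.hom, ← Category.assoc]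
        congr 1
        rw [← hkey h' hh' hg', Category.assoc, he']
      · simp only [Fin.lastCases_castSucc]
        rw [ssC, ← hsub h' hh' j]
        simp only [Iso.trans_hom, Functor.mapIso_hom, Iso.symm_hom, Iso.app_hom, eqToIso.hom,
          Category.assoc]
        rw [← Functor.map_comp_assoc, Iso.hom_inv_id, CategoryTheory.Functor.map_id, Category.id_comp,
          Iso.inv_hom_id_app_assoc]
        subst hg'
        simp [sC, Scheme.Modules.pullbackCongr]

end Groth.GrassRep
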