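import Groth.Agent.GrassRep.Free
import Groth.Agent.Misc15.ProjPts

/-!
# The Plücker embedding of the Grassmannian of a free module
-/

set_option autoImplicit false

universe u

open CategoryTheory CategoryTheory.Limits AlgebraicGeometry TensorProduct Module

noncomputable section

namespace Groth.GrassRep

variable {R : Type u} [CommRing R] {M : Type u} [AddCommGroup M] [Module R M] {k : ℕ}
variable {A : Type u} [CommRing A] [Algebra R A]

/-- cocycle rule for the determinants -/
lemma dmat_trans {x y : Fin k → M} {N : Grassmannian A (A ⊗[R] M) k} (hx : InChart x N)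
    (hy : InChart y N) (z : Fin k → M) :
    dmat (coef hx) z = dmat (coef hx) y * dmat (coef hy) z := by
  rw [dmat, dmat, dmat, ← Matrix.det_mul]
  congr 1
  ext i j
  have key : coef hx (z j) = ∑ l, coef hy (z j) l • coef hx (y l) := by
    rw [coef_eq_iff, map_sum]
    simp only [map_smul, sel_coef]
    rw [← sel_coef hy (z j), sel_apply y, map_sum]
    simp only [map_smul]
  rw [Matrix.mul_apply, Matrix.of_apply, key, Finset.sum_apply]
  simp [mul_comm]

lemma inChart_of_range_eq {x y : Fin k → M} (h : Set.range x = Set.range y)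
    {N : Grassmannian A (A ⊗[R] M) k} (hx : InChart x N) : InChart y N := by
  rw [InChart, ← LinearMap.range_eq_top, sel, Fintype.range_linearCombination] at hx ⊢
  rw [show (fun i => N.toSubmodule.mkQ ((1 : A) ⊗ₜ[R] y i)) =
      (fun m => N.toSubmodule.mkQ ((1 : A) ⊗ₜ[R] m)) ∘ y from rfl, Set.range_comp, ← h, ← Set.range_comp]
  exact hx

/-- every point of the Grassmannian lies in a chart from a family of tuples meeting every admissible range -/
theorem exists_chart_mem_of_range {s : Set M} (hs : Submodule.span R s = ⊤) (J : Set (Fin k → M))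
    (hJ : ∀ (x : Fin k → M), (∀ i, x i ∈ s) →
      ∀ (K : CommAlgCat.{u} R) (N : Grassmannian K (K ⊗[R] M) k), Nontrivial K → InChart x N →
        ∃ y ∈ J, Set.range x = Set.range y)
    (t : (grass R M k).left) : ∃ y ∈ J, t ∈ Set.range (jj R M k y).left := by
  obtain ⟨ι, A, f, hf, hcov⟩ := exists_cover (grass R M k)
  obtain ⟨i, p, rfl⟩ := hcov t
  obtain ⟨x, a, hxs, ha, hx⟩ := exists_inChart_away (pts R M k (A i) (f i)) hs p
  have hu := IsLocalization.Away.algebraMap_isUnit (S := Localization.Away a) a
  have hc₀ : InChart x (pts R M k _ (awayMap' a ≫ f i)) := by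
    rw [pts_natural]
    exact hx _ _ hu
  obtain ⟨q, hq⟩ : p ∈ Set.range (PrimeSpectrum.comap (algebraMap (A i) (Localization.Away a))) := by
    rw [PrimeSpectrum.localization_away_comap_range (Localization.Away a) a]
    exact ha
  obtain ⟨y, hyJ, hxy⟩ := hJ x hxs _ _ q.nontrivial hc₀
  have hc := inChart_of_range_eq hxy hc₀
  have hg := eq_chart (awayMap' a ≫ f i) hc
  refine ⟨y, hyJ, (ptMap (CommAlgCat.ofHom (toChart hc))).left q, ?_⟩
  rw [← Scheme.Hom.comp_apply, ← Over.comp_left, ← hg, Over.comp_left, Scheme.Hom.comp_apply]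
  exact congrArg (f i).left hq

section Scale

open Groth.Misc15.ProjPts

variable {S : Type u} [CommRing S] {N : ℕ}

lemma pt_smul {f : MvPolynomial (Fin (N + 1)) Z.{u}} (hf : f ∈ gr N 1) (a : S) (c : Fin (N + 1) → S)
    (h : IsUnit (ev c f)) (h' : IsUnit (ev (fun i => a * c i) f)) :
    pt f hf (fun i => a * c i) h' = pt f hf c h := by
  have key : evAway f (fun i => a * c i) h' = evAway f c h := by
    refine RingHom.ext fun x => ?_
    obtain ⟨d, p, hp, rfl⟩ := HomogeneousLocalization.Away.mk_surjective (gr N) hf x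
    rw [evAway_lift, evAway_lift, HomogeneousLocalization.Away.val_mk]
    have h1 := lift_mk (fun i => a * c i) h' p d
    have h2 := lift_mk c h p d
    have hp' : p.IsHomogeneous d := by
      simpa using (MvPolynomial.mem_homogeneousSubmodule _ _).mp hp
    have hf' : f.IsHomogeneous 1 := (MvPolynomial.mem_homogeneousSubmodule _ _).mp hf
    rw [ev_smul a c hp', ev_smul a c hf', pow_one, ← h2] at h1
    rw [ev_smul a c hf', pow_one] at h'
    refine (h'.pow d).mul_left_injective ?_
    simp only
    rw [h1, mul_pow]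
    ring
  simp only [pt, key]

lemma notMem_of_pt_mem {i j : Fin (N + 1)} (c : Fin (N + 1) → S) (h : IsUnit (ev c (MvPolynomial.X i)))
    (p : PrimeSpectrum S) (hp : pt (MvPolynomial.X i) (X_mem i) c h p ∈ D j) : c j ∉ p.asIdeal := by
  intro hj
  have h1 : (Spec.map (CommRingCat.ofHom (evAway _ c h))) p ∈
      aw (MvPolynomial.X i) (X_mem i) one_pos ⁻¹ᵁ D j := hp
  unfold aw D at h1
  replace h1 := (SetLike.ext_iff.mp
    (Proj.awayι_preimage_basicOpen (gr N) (X_mem i) one_pos (X_mem j) one_pos) _).mp h1
  apply h1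
  show evAway _ c h (HomogeneousLocalization.Away.mk (gr N) (X_mem i) 1 (MvPolynomial.X j ^ 1) _) ∈ p.asIdeal
  rw [evAway_lift, HomogeneousLocalization.Away.val_mk]
  have h2 := lift_mk c h (MvPolynomial.X j ^ 1) 1
  rw [← Ideal.unit_mul_mem_iff_mem _ (h.pow 1), mul_comm, h2, map_pow, ev_X, pow_one]
  exact hj

end Scale

section Embedding

open Groth.Misc15.ProjPts

variable {n : ℕ}

lemma succ_choose (hk : k ≤ n) : n.choose k - 1 + 1 = n.choose k :=
  Nat.succ_pred_eq_of_pos (Nat.choose_pos hk)

/-- enumeration of the `k`-element subsets -/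
def subEquiv (hk : k ≤ n) : Fin (n.choose k - 1 + 1) ≃ {S : Finset (Fin n) // S.card = k} :=
  (Fintype.equivFinOfCardEq (by rw [Fintype.card_finset_len, Fintype.card_fin, succ_choose hk])).symm

/-- the increasing enumeration of the `i`-th subset -/
def sg (hk : k ≤ n) (i : Fin (n.choose k - 1 + 1)) : Fin k → Fin n :=
  (subEquiv hk i).1.orderEmbOfFin (subEquiv hk i).2

lemma exists_sg (hk : k ≤ n) {τ : Fin k → Fin n} (hτ : Function.Injective τ) :
    ∃ (i : Fin (n.choose k - 1 + 1)) (π : Equiv.Perm (Fin k)), τ = sg hk i ∘ π := by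
  classical
  let i := (subEquiv hk).symm ⟨Finset.univ.image τ, by simp [Finset.card_image_of_injective _ hτ]⟩
  have hi : ((subEquiv hk) i).1 = Finset.univ.image τ := by
    rw [show subEquiv hk i = _ from (subEquiv hk).apply_symm_apply _]
  have hm : ∀ l, ∃ j, sg hk i j = τ l := fun l => by
    have : τ l ∈ Set.range (sg hk i) := by
      rw [sg, Finset.range_orderEmbOfFin, hi]
      simp
    exact this
  choose π hπ using hm
  have hinj : Function.Injective π := fun a b h => hτ (by rw [← hπ a, ← hπ b, h])
  exact ⟨i, Equiv.ofBijective π (Finite.injective_iff_bijective.mp hinj), funext fun l => (hπ l).symm⟩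

variable (R) in
/-- Plücker coordinates on a chart -/
def minor (hk : k ≤ n) (j : Fin (n.choose k - 1 + 1)) :
    Fin (n.choose k - 1 + 1) → P R (xs R (sg hk j)) :=
  fun i => dmat (univMap R (xs R (sg hk j))).1 (xs R (sg hk i))

lemma minor_self (hk : k ≤ n) (j : Fin (n.choose k - 1 + 1)) : minor R hk j j = 1 := dmat_self _

lemma minor_unit (hk : k ≤ n) (j : Fin (n.choose k - 1 + 1)) :
    IsUnit (ev (minor R hk j) (MvPolynomial.X j)) := by
  rw [ev_X, minor_self]; exact isUnit_one

lemma map_minor (hk : k ≤ n) (j : Fin (n.choose k - 1 + 1)) (a : P R (xs R (sg hk j)) →ₐ[R] A)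
    (i : Fin (n.choose k - 1 + 1)) :
    a (minor R hk j i) = dmat (coef ((inChart_uU (R := R) (xs R (sg hk j))).map a)) (xs R (sg hk i)) :=
  map_dmat a _ _ (fun m => by
    rw [coef_map (inChart_uU _)]
    rw [show coef (inChart_uU (R := R) (xs R (sg hk j))) = (univMap R (xs R (sg hk j))).1 from coef_ofCoef _]) _

variable (R) in
/-- the Plücker morphism on a chart -/
def plChart (hk : k ≤ n) (j : Fin (n.choose k - 1 + 1)) :
    Pt (Pc R (xs R (sg hk j))) ⟶
      Over.mk (CohB1.ProjSpaceOver.toBase (n.choose k - 1) (Spec (CommRingCat.of R))) :=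
  Over.homMk (pullback.lift (pt (MvPolynomial.X j) (X_mem j) (minor R hk j) (minor_unit hk j))
    (Spec.map (CommRingCat.ofHom (algebraMap R (P R (xs R (sg hk j))))))
    (specULiftZIsTerminal.hom_ext _ _)) (pullback.lift_snd _ _ _)

lemma plChart_fst (hk : k ≤ n) (j : Fin (n.choose k - 1 + 1)) :
    (plChart R hk j).left ≫ toZ R = pt (MvPolynomial.X j) (X_mem j) (minor R hk j) (minor_unit hk j) :=
  pullback.lift_fst _ _ _

lemma plChart_compat (hk : k ≤ n) (i j : Fin (n.choose k - 1 + 1)) (B : CommAlgCat.{u} R)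
    (a : Pt B ⟶ Pt (Pc R (xs R (sg hk i)))) (b : Pt B ⟶ Pt (Pc R (xs R (sg hk j))))
    (h : a ≫ jj R (Fin n → R) k (xs R (sg hk i)) = b ≫ jj R (Fin n → R) k (xs R (sg hk j))) :
    a ≫ plChart R hk i = b ≫ plChart R hk j := by
  obtain ⟨φ, rfl⟩ := exists_ptMap a
  obtain ⟨ψ, rfl⟩ := exists_ptMap b
  have hN := (jj_eq_iff φ.hom ψ.hom).mp h
  have hi : InChart (xs R (sg hk i)) (Grassmannian.map φ.hom (uU R (xs R (sg hk i)))) := (inChart_uU _).map _
  have hj₀ : InChart (xs R (sg hk j)) (Grassmannian.map ψ.hom (uU R (xs R (sg hk j)))) := (inChart_uU _).map _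
  have hj : InChart (xs R (sg hk j)) (Grassmannian.map φ.hom (uU R (xs R (sg hk i)))) := hN ▸ hj₀
  have hu : IsUnit (φ.hom (minor R hk i j)) := by
    rw [map_minor]
    exact (inChart_iff_isUnit hi _).mp hj
  have hci : ∀ l, φ.hom (minor R hk i l) = φ.hom (minor R hk i j) * ψ.hom (minor R hk j l) := by
    intro l
    rw [map_minor, map_minor, map_minor, dmat_trans hi hj]
    congr 2
    congr 1
  refine Over.OverMorphism.ext (pullback.hom_ext ?_ ?_)
  · show ((ptMap φ).left ≫ (plChart R hk i).left) ≫ toZ R = ((ptMap ψ).left ≫ (plChart R hk j).left) ≫ toZ R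
    have u1 : IsUnit (ev (φ.hom.toRingHom ∘ minor R hk i) (MvPolynomial.X i)) := by
      rw [← comp_ev]; exact (minor_unit hk i).map φ.hom.toRingHom
    have u2 : IsUnit (ev (ψ.hom.toRingHom ∘ minor R hk j) (MvPolynomial.X j)) := by
      rw [← comp_ev]; exact (minor_unit hk j).map ψ.hom.toRingHom
    have u3 : IsUnit (ev (φ.hom.toRingHom ∘ minor R hk i) (MvPolynomial.X j)) := by
      rw [ev_X]; exact hu
    rw [Category.assoc, Category.assoc, plChart_fst, plChart_fst, ptMap_left, ptMap_left,
      pt_comp φ.hom.toRingHom _ _ _ u1, pt_comp ψ.hom.toRingHom _ _ _ u2,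
      pt_change (X_mem i) (X_mem j) _ u1 u3]
    have hfun : φ.hom.toRingHom ∘ minor R hk i =
        fun l => φ.hom (minor R hk i j) * (ψ.hom.toRingHom ∘ minor R hk j) l := funext hci
    revert u3
    rw [hfun]
    intro u3
    exact pt_smul _ _ _ u2 u3
  · show ((ptMap φ).left ≫ (plChart R hk i).left) ≫ pullback.snd _ _ =
      ((ptMap ψ).left ≫ (plChart R hk j).left) ≫ pullback.snd _ _
    exact (Over.w (ptMap φ ≫ plChart R hk i)).trans (Over.w (ptMap ψ ≫ plChart R hk j)).symm

lemma exists_sg_chart (hk : k ≤ n) (t : (grass R (Fin n → R) k).left) :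
    ∃ j, t ∈ Set.range (jj R (Fin n → R) k (xs R (sg hk j))).left := by
  obtain ⟨y, ⟨j, rfl⟩, hy⟩ := exists_chart_mem_of_range
    (s := Set.range fun l : Fin n => (Pi.single l 1 : Fin n → R))
    (by simpa [← Pi.basisFun_apply] using (Pi.basisFun R (Fin n)).span_eq)
    (Set.range fun j => xs R (sg hk j))
    (fun x hx K N hK hN => by
      choose τ hτ using hx
      obtain rfl : x = xs R τ := funext fun i => (hτ i).symm
      obtain ⟨j, π, rfl⟩ := exists_sg hk (injective_of_inChart hN)
      refine ⟨_, ⟨j, rfl⟩, ?_⟩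
      rw [show xs R (sg hk j ∘ π) = xs R (sg hk j) ∘ π from rfl, π.surjective.range_comp]) t
  exact ⟨j, hy⟩

lemma dmat_single_mem (hk : k ≤ n) (j : Fin (n.choose k - 1 + 1))
    (Sr : Subring (P R (xs R (sg hk j)))) (hSr : ∀ i, minor R hk j i ∈ Sr) (i : Fin k) (l : Fin n) :
    (univMap R (xs R (sg hk j))).1 (Pi.single l 1) i ∈ Sr := by
  classical
  set φ := univMap R (xs R (sg hk j))
  have hdet : φ.1 (Pi.single l 1) i = dmat φ.1 (xs R (Function.update (sg hk j) i l)) := by
    rw [dmat]
    trans ((1 : Matrix (Fin k) (Fin k) (P R (xs R (sg hk j)))).updateCol i (φ.1 (Pi.single l 1))).det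
    · rw [← Matrix.cramer_apply, Matrix.cramer_one]
      rfl
    · congr 1
      ext a b
      rw [Matrix.updateCol_apply, Matrix.of_apply]
      by_cases hb : b = i
      · subst hb; simp [xs]
      · rw [if_neg hb]
        have h2 := congrFun (φ.2 b) a
        simp only [xs] at h2 ⊢
        rw [Function.update_of_ne hb, h2, Matrix.one_apply, Pi.single_apply]
  rw [hdet]
  by_cases hinj : Function.Injective (Function.update (sg hk j) i l)
  · obtain ⟨q, π, hq⟩ := exists_sg hk hinj
    rw [hq, dmat, show (Matrix.of fun a b => φ.1 (xs R (sg hk q ∘ π) b) a) =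
      (Matrix.of fun a b => φ.1 (xs R (sg hk q) b) a).submatrix id π from rfl, Matrix.det_permute']
    exact Subring.mul_mem _ (intCast_mem Sr _) (hSr q)
  · rw [Function.Injective] at hinj
    push Not at hinj
    obtain ⟨a, b, hab, hne⟩ := hinj
    rw [dmat, Matrix.det_zero_of_column_eq hne fun c => by simp [xs, hab]]
    exact zero_mem _

/-- the Plücker embedding -/
theorem exists_plucker (hk : k ≤ n) {X : Over (Spec (CommRingCat.of R))}
    {e : ∀ A : CommAlgCat.{u} R, (Pt A ⟶ X) ≃ (Grassmannian.functor (R := R) (M := Fin n → R) k).obj A}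
    (he : Natural X e) :
    ∃ c : X.left ⟶ CohB1.ProjSpaceOver (n.choose k - 1) (Spec (CommRingCat.of R)),
      IsClosedImmersion c ∧
        c ≫ CohB1.ProjSpaceOver.toBase (n.choose k - 1) (Spec (CommRingCat.of R)) = X.hom := by
  obtain ⟨iso, -⟩ := he.exists_iso
  let J := ULift.{u} (Fin (n.choose k - 1 + 1))
  have : ∀ j : J, IsOpenImmersion (jj R (Fin n → R) k (xs R (sg hk j.down))).left := fun j => inferInstance
  obtain ⟨c, hc⟩ := exists_glue (fun j : J => jj R (Fin n → R) k (xs R (sg hk j.down)))
    (fun t => ⟨⟨(exists_sg_chart hk t).choose⟩, (exists_sg_chart hk t).choose_spec⟩)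
    (fun j => plChart R hk j.down) (fun i j => plChart_compat hk i.down j.down)
  have hcl : IsClosedImmersion c.left := by
    let 𝒰 : (CohB1.ProjSpaceOver (n.choose k - 1) (Spec (CommRingCat.of R))).OpenCover :=
      { I₀ := Fin (n.choose k - 1 + 1)
        X := fun _ => Spec (CommRingCat.of (MvPolynomial (Fin (n.choose k - 1)) R))
        f := fun j => chart j R
        mem₀ := by
          rw [Scheme.presieve₀_mem_precoverage_iff]
          exact ⟨fun x => Groth.Misc15.ProjPts.exists_chart_mem R x, fun j => inferInstance⟩ }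
    refine IsZariskiLocalAtTarget.of_openCover (P := @IsClosedImmersion) 𝒰 fun j => ?_
    show IsClosedImmersion (pullback.snd c.left (chart j R))
    let ψ : MvPolynomial (Fin (n.choose k - 1)) R →ₐ[R] P R (xs R (sg hk j)) :=
      MvPolynomial.aeval fun l => minor R hk j (j.succAbove l)
    have hψ : Function.Surjective ψ := by
      let Sr : Subring (P R (xs R (sg hk j))) := ψ.range.toSubring
      have hS : ∀ q, minor R hk j q ∈ Sr := by
        intro q
        rcases Fin.eq_self_or_eq_succAbove j q with rfl | ⟨l, rfl⟩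
        · rw [minor_self]; exact one_mem _
        · exact ⟨MvPolynomial.X l, MvPolynomial.aeval_X _ _⟩
      intro z
      obtain ⟨w, rfl⟩ := Ideal.Quotient.mk_surjective z
      show Ideal.Quotient.mk _ w ∈ Set.range ψ
      induction w using MvPolynomial.induction_on with
      | C r => exact ⟨MvPolynomial.C r, MvPolynomial.aeval_C _ _⟩
      | add p q hp hq =>
        rw [map_add]
        exact Subring.add_mem Sr hp hq
      | mul_X p q hp =>
        rw [map_mul]
        refine Subring.mul_mem Sr hp ?_
        show (univMap R (xs R (sg hk j))).1 q.1 q.2 ∈ Sr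
        rw [← (Pi.basisFun R (Fin n)).sum_repr q.1, map_sum, Finset.sum_apply]
        refine Subring.sum_mem _ fun l _ => ?_
        rw [map_smul, Pi.smul_apply, Pi.basisFun_apply]
        exact ψ.range.smul_mem (dmat_single_mem hk j Sr hS q.2 l) _
    have hsq : (jj R (Fin n → R) k (xs R (sg hk j))).left ≫ c.left =
        Spec.map (CommRingCat.ofHom ψ.toRingHom) ≫ chart j R := by
      rw [← Over.comp_left, hc ⟨j⟩]
      refine pullback.hom_ext ?_ ?_
      · show (plChart R hk j).left ≫ toZ R = (Spec.map _ ≫ chart j R) ≫ toZ R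
        rw [plChart_fst, Category.assoc, chart_fst]
        have hcomp : ψ.toRingHom ∘ coord j R = minor R hk j := by
          funext q
          rcases Fin.eq_self_or_eq_succAbove j q with rfl | ⟨l, rfl⟩
          · simp [coord, minor_self]
          · simp [coord, ψ]
        have u : IsUnit (ev (ψ.toRingHom ∘ coord j R) (MvPolynomial.X j)) := by
          rw [hcomp]; exact minor_unit hk j
        rw [chartPt, pt_comp _ _ _ _ u]
        congr 1
        exact hcomp.symm
      · show (plChart R hk j).left ≫ CohB1.ProjSpaceOver.toBase _ _ =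
          (Spec.map _ ≫ chart j R) ≫ CohB1.ProjSpaceOver.toBase _ _
        rw [Category.assoc, chart_toBase, ← Spec.map_comp, ← CommRingCat.ofHom_comp]
        refine (Over.w (plChart R hk j)).trans ?_
        show Spec.map _ = Spec.map _
        congr 2
        exact ψ.comp_algebraMap.symm
    have hpre : c.left ⁻¹ᵁ (chart j R).opensRange = (jj R (Fin n → R) k (xs R (sg hk j))).left.opensRange := by
      refine le_antisymm (fun t ht => ?_) ?_
      · obtain ⟨i, hi⟩ := exists_sg_chart hk t
        obtain ⟨p, rfl⟩ := hi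
        have hD : pt (MvPolynomial.X i) (X_mem i) (minor R hk i) (minor_unit hk i) p ∈ D j := by
          rw [← plChart_fst, Scheme.Hom.comp_apply]
          refine (chart_mem_iff j R _).mp ?_
          rw [← hc ⟨i⟩, Over.comp_left, Scheme.Hom.comp_apply]
          exact ht
        have hnot : minor R hk i j ∉ p.asIdeal := notMem_of_pt_mem _ _ p hD
        let B := CommAlgCat.of R (Localization.Away (minor R hk i j))
        let g : Pt B ⟶ grass R (Fin n → R) k :=
          awayMap' (A := Pc R (xs R (sg hk i))) (minor R hk i j) ≫ jj R (Fin n → R) k (xs R (sg hk i))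
        have hg : InChart (xs R (sg hk j)) (pts R (Fin n → R) k B g) := by
          rw [pts_natural, pts_jj]
          exact (inChart_map_iff _).mpr (IsLocalization.Away.algebraMap_isUnit
            (S := Localization.Away (minor R hk i j)) (minor R hk i j))
        obtain ⟨q, rfl⟩ : p ∈ Set.range (PrimeSpectrum.comap
            (algebraMap (P R (xs R (sg hk i))) (Localization.Away (minor R hk i j)))) := by
          rw [PrimeSpectrum.localization_away_comap_range (Localization.Away (minor R hk i j)) (minor R hk i j)]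
          exact hnot
        refine ⟨(ptMap (CommAlgCat.ofHom (toChart hg))).left q, ?_⟩
        rw [← Scheme.Hom.comp_apply, ← Over.comp_left, ← eq_chart g hg, Over.comp_left, Scheme.Hom.comp_apply]
        rfl
      · rintro _ ⟨q, rfl⟩
        exact ⟨Spec.map (CommRingCat.ofHom ψ.toRingHom) q, by
          rw [← Scheme.Hom.comp_apply, ← Scheme.Hom.comp_apply, hsq]⟩
    have hpb : IsPullback (jj R (Fin n → R) k (xs R (sg hk j))).left
        (Spec.map (CommRingCat.ofHom ψ.toRingHom)) c.left (chart j R) :=
      (IsOpenImmersion.isPullback (Spec.map (CommRingCat.ofHom ψ.toRingHom))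
        (jj R (Fin n → R) k (xs R (sg hk j))).left (chart j R) c.left hsq hpre).flip
    rw [← hpb.isoPullback_inv_snd]
    have : IsClosedImmersion (Spec.map (CommRingCat.ofHom ψ.toRingHom)) :=
      IsClosedImmersion.spec_of_surjective _ hψ
    infer_instance
  refine ⟨iso.inv.left ≫ c.left, inferInstance, ?_⟩
  rw [Category.assoc, show c.left ≫ CohB1.ProjSpaceOver.toBase _ _ = (grass R (Fin n → R) k).hom from Over.w c,
    Over.w iso.inv]

end Embedding

end Groth.GrassRep
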