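import Groth.Agent.GrassRep.Abstract

/-!
# Stable submodules and quotients of the module as closed conditions on the Grassmannian
-/

set_option autoImplicit false

universe u

open CategoryTheory CategoryTheory.Limits AlgebraicGeometry TensorProduct Module

noncomputable section

namespace Groth.GrassRep

variable {R : Type u} [CommRing R] {k : ℕ}

lemma iota_one_tmul_mul {M : Type u} [Ring M] [Algebra R M] {A B : Type u} [CommRing A] [Algebra R A]
    [CommRing B] [Algebra R B] (f : A →ₐ[R] B) (a : M) (z : A ⊗[R] M) :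
    iota f (((1 : A) ⊗ₜ[R] a) * z) = ((1 : B) ⊗ₜ[R] a) * iota f z := by
  induction z using TensorProduct.induction_on with
  | zero => simp
  | tmul c m => simp
  | add x y hx hy => simp only [mul_add, map_add, hx, hy]

/-- being stable under left multiplications is cut out by an ideal -/
theorem exists_ideal_stable {M : Type u} [Ring M] [Algebra R M] (A : CommAlgCat.{u} R)
    (N : Grassmannian A (A ⊗[R] M) k) :
    ∃ I : Ideal A, ∀ (B : CommAlgCat.{u} R) (φ : A ⟶ B),
      (∀ (a : M) (x : B ⊗[R] M), x ∈ (Grassmannian.map φ.hom N).toSubmodule →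
        ((1 : B) ⊗ₜ[R] a) * x ∈ (Grassmannian.map φ.hom N).toSubmodule) ↔
        I ≤ RingHom.ker φ.hom.toRingHom := by
  obtain ⟨I, hI⟩ := exists_ideal N {w | ∃ (a : M) (z : A ⊗[R] M), z ∈ N.toSubmodule ∧ w = ((1 : A) ⊗ₜ[R] a) * z}
  refine ⟨I, fun B φ => Iff.trans ⟨?_, ?_⟩ (hI B φ.hom)⟩
  · rintro h _ ⟨a, z, hz, rfl⟩
    rw [iota_one_tmul_mul]
    exact h a _ (iota_mem_map φ.hom N hz)
  · intro h a x hx
    rw [map_eq_span] at hx
    induction hx using Submodule.span_induction with
    | mem y hy =>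
      obtain ⟨z, hz, rfl⟩ := hy
      rw [← iota_one_tmul_mul]
      exact h _ ⟨a, z, hz, rfl⟩
    | zero => rw [mul_zero]; exact zero_mem _
    | add x y _ _ hx hy => rw [mul_add]; exact add_mem hx hy
    | smul b x _ hx => rw [mul_smul_comm]; exact Submodule.smul_mem _ b hx

/-- the locus of stable submodules -/
theorem exists_closedImmersion_stable {M : Type u} [Ring M] [Algebra R M]
    {X : Over (Spec (CommRingCat.of R))}
    {e : ∀ A : CommAlgCat.{u} R, (Pt A ⟶ X) ≃ (Grassmannian.functor (R := R) (M := M) k).obj A}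
    (he : Natural X e) :
    ∃ (Z : Scheme.{u}) (ι : Z ⟶ X.left), IsClosedImmersion ι ∧
      ∀ (A : CommAlgCat.{u} R) (g : Pt A ⟶ X),
        (∃ h : (Pt A).left ⟶ Z, h ≫ ι = g.left) ↔
          ∀ (a : M) (x : A ⊗[R] M), x ∈ (e A g).toSubmodule →
            ((1 : A) ⊗ₜ[R] a) * x ∈ (e A g).toSubmodule := by
  obtain ⟨Z, c, hc, hZ⟩ := he.exists_closed
    (fun A N => ∀ (a : M) (x : A ⊗[R] M), x ∈ N.toSubmodule → ((1 : A) ⊗ₜ[R] a) * x ∈ N.toSubmodule)
    exists_ideal_stable
  refine ⟨Z.left, c.left, hc, fun A g => ⟨?_, fun h => ?_⟩⟩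
  · rintro ⟨h, hh⟩
    exact (hZ A g).mp ⟨Over.homMk h (by rw [← Over.w c, ← Category.assoc, hh]; exact Over.w g),
      Over.OverMorphism.ext hh⟩
  · obtain ⟨z, hz⟩ := (hZ A g).mpr h
    exact ⟨z.left, congrArg CommaMorphism.left hz⟩

variable {M₁ M₂ : Type u} [AddCommGroup M₁] [Module R M₁] [AddCommGroup M₂] [Module R M₂]

lemma iota_baseChange (v : M₁ →ₗ[R] M₂) {A B : Type u} [CommRing A] [Algebra R A]
    [CommRing B] [Algebra R B] (f : A →ₐ[R] B) (z : A ⊗[R] M₁) :
    iota f (v.baseChange A z) = v.baseChange B (iota f z) := by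
  induction z using TensorProduct.induction_on with
  | zero => simp
  | tmul c m => simp
  | add x y hx hy => simp only [map_add, hx, hy]

/-- quotients of `M₂` as quotients of `M₁`, for a surjection `M₁ → M₂` -/
def comapPoint (v : M₁ →ₗ[R] M₂) (hv : Function.Surjective v) {A : Type u} [CommRing A] [Algebra R A]
    (N : Grassmannian A (A ⊗[R] M₂) k) : Grassmannian A (A ⊗[R] M₁) k :=
  have hq : Function.Surjective (N.toSubmodule.mkQ.comp (v.baseChange A)) :=
    (Submodule.mkQ_surjective _).comp (LinearMap.baseChange_surjective A hv)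
  have hk : N.toSubmodule.comap (v.baseChange A) = LinearMap.ker (N.toSubmodule.mkQ.comp (v.baseChange A)) := by
    rw [LinearMap.ker_comp, Submodule.ker_mkQ]
  { toSubmodule := N.toSubmodule.comap (v.baseChange A)
    finite_quotient := Module.Finite.equiv
      ((Submodule.quotEquivOfEq _ _ hk).trans (LinearMap.quotKerEquivOfSurjective _ hq)).symm
    projective_quotient :=
      have := N.projective_quotient
      Module.Projective.of_equiv
        ((Submodule.quotEquivOfEq _ _ hk).trans (LinearMap.quotKerEquivOfSurjective _ hq)).symm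
    rankAtStalk_eq := fun p => by
      rw [Module.rankAtStalk_eq_of_equiv
        ((Submodule.quotEquivOfEq _ _ hk).trans (LinearMap.quotKerEquivOfSurjective _ hq))]
      exact N.rankAtStalk_eq p }

@[simp] lemma comapPoint_toSubmodule (v : M₁ →ₗ[R] M₂) (hv : Function.Surjective v) {A : Type u}
    [CommRing A] [Algebra R A] (N : Grassmannian A (A ⊗[R] M₂) k) :
    (comapPoint v hv N).toSubmodule = N.toSubmodule.comap (v.baseChange A) := rfl

lemma ker_baseChange_le {A : Type u} [CommRing A] [Algebra R A] (v : M₁ →ₗ[R] M₂)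
    (hv : Function.Surjective v) (S : Submodule A (A ⊗[R] M₁))
    (h : ∀ m, v m = 0 → (1 : A) ⊗ₜ[R] m ∈ S) : LinearMap.ker (v.baseChange A) ≤ S := by
  intro z hz
  obtain ⟨w, rfl⟩ := ((lTensor_exact A (LinearMap.exact_subtype_ker_map v) hv) z).mp hz
  clear hz
  induction w using TensorProduct.induction_on with
  | zero => simp
  | tmul a m =>
    rw [LinearMap.lTensor_tmul, Submodule.subtype_apply,
      show a ⊗ₜ[R] (m : M₁) = a • ((1 : A) ⊗ₜ[R] (m : M₁)) by simp [TensorProduct.smul_tmul', smul_eq_mul]]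
    exact Submodule.smul_mem _ _ (h _ m.2)
  | add x y hx hy => rw [map_add]; exact add_mem hx hy

lemma map_comapPoint (v : M₁ →ₗ[R] M₂) (hv : Function.Surjective v) {A B : Type u} [CommRing A]
    [Algebra R A] [CommRing B] [Algebra R B] (f : A →ₐ[R] B) (N : Grassmannian A (A ⊗[R] M₂) k) :
    Grassmannian.map f (comapPoint v hv N) = comapPoint v hv (Grassmannian.map f N) := by
  refine Grassmannian.ext (le_antisymm ?_ ?_)
  · rw [map_eq_span, Submodule.span_le]
    rintro _ ⟨z, hz, rfl⟩
    show v.baseChange B (iota f z) ∈ (Grassmannian.map f N).toSubmodule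
    rw [← iota_baseChange]
    exact iota_mem_map f N hz
  · intro x hx
    have hker : LinearMap.ker (v.baseChange B) ≤ (Grassmannian.map f (comapPoint v hv N)).toSubmodule :=
      ker_baseChange_le v hv _ fun m hm => by
        rw [show (1 : B) ⊗ₜ[R] m = iota f ((1 : A) ⊗ₜ[R] m) by simp]
        refine iota_mem_map f _ ?_
        show v.baseChange A ((1 : A) ⊗ₜ[R] m) ∈ N.toSubmodule
        simp [hm]
    have key : (Grassmannian.map f N).toSubmodule ≤
        (Grassmannian.map f (comapPoint v hv N)).toSubmodule.map (v.baseChange B) := by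
      rw [map_eq_span f N, Submodule.span_le]
      rintro _ ⟨z, hz, rfl⟩
      obtain ⟨w, rfl⟩ := LinearMap.baseChange_surjective A hv z
      exact ⟨iota f w, iota_mem_map f _ hz, (iota_baseChange v f w).symm⟩
    obtain ⟨y, hy, hyx⟩ := key (show v.baseChange B x ∈ _ from hx)
    have hxy : x - y ∈ LinearMap.ker (v.baseChange B) := by
      rw [LinearMap.mem_ker, map_sub, hyx, sub_self]
    have := add_mem (hker hxy) hy
    rwa [sub_add_cancel] at this

lemma comapPoint_injective (v : M₁ →ₗ[R] M₂) (hv : Function.Surjective v) {A : Type u} [CommRing A]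
    [Algebra R A] : Function.Injective (comapPoint (k := k) (A := A) v hv) := fun N N' h =>
  Grassmannian.ext (Submodule.comap_injective_of_surjective (LinearMap.baseChange_surjective A hv)
    (congrArg Grassmannian.toSubmodule h))

lemma exists_comapPoint (v : M₁ →ₗ[R] M₂) (hv : Function.Surjective v) {A : Type u} [CommRing A]
    [Algebra R A] (N : Grassmannian A (A ⊗[R] M₁) k)
    (h : ∀ m, v m = 0 → (1 : A) ⊗ₜ[R] m ∈ N.toSubmodule) :
    ∃ N' : Grassmannian A (A ⊗[R] M₂) k, comapPoint v hv N' = N := by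
  let S := N.toSubmodule.map (v.baseChange A)
  have hS : S.comap (v.baseChange A) = N.toSubmodule :=
    Submodule.comap_map_eq_self (ker_baseChange_le v hv _ h)
  have hq : Function.Surjective (S.mkQ.comp (v.baseChange A)) :=
    (Submodule.mkQ_surjective _).comp (LinearMap.baseChange_surjective A hv)
  have hk : N.toSubmodule = LinearMap.ker (S.mkQ.comp (v.baseChange A)) := by
    rw [LinearMap.ker_comp, Submodule.ker_mkQ, hS]
  let eq := (Submodule.quotEquivOfEq _ _ hk).trans (LinearMap.quotKerEquivOfSurjective _ hq)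
  exact ⟨{ toSubmodule := S
           finite_quotient := Module.Finite.equiv eq
           projective_quotient :=
             have := N.projective_quotient
             Module.Projective.of_equiv eq
           rankAtStalk_eq := fun p => by
             rw [← Module.rankAtStalk_eq_of_equiv eq]; exact N.rankAtStalk_eq p }, Grassmannian.ext hS⟩

/-- being a quotient of `M₂` is cut out by an ideal -/
theorem exists_ideal_factor (v : M₁ →ₗ[R] M₂) (A : CommAlgCat.{u} R) (N : Grassmannian A (A ⊗[R] M₁) k) :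
    ∃ I : Ideal A, ∀ (B : CommAlgCat.{u} R) (φ : A ⟶ B),
      (∀ m, v m = 0 → (1 : B) ⊗ₜ[R] m ∈ (Grassmannian.map φ.hom N).toSubmodule) ↔
        I ≤ RingHom.ker φ.hom.toRingHom := by
  obtain ⟨I, hI⟩ := exists_ideal N {w | ∃ m, v m = 0 ∧ w = (1 : A) ⊗ₜ[R] m}
  refine ⟨I, fun B φ => Iff.trans ⟨?_, ?_⟩ (hI B φ.hom)⟩
  · rintro h _ ⟨m, hm, rfl⟩
    rw [iota_tmul, map_one]
    exact h m hm
  · intro h m hm
    have := h _ ⟨m, hm, rfl⟩
    rwa [iota_tmul, map_one] at this

/-- the morphism of Grassmannians of a surjection exists and is a closed immersion -/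
theorem isClosedImmersion_comap (v : M₁ →ₗ[R] M₂) (hv : Function.Surjective v)
    {X₁ X₂ : Over (Spec (CommRingCat.of R))}
    {e₁ : ∀ A : CommAlgCat.{u} R, (Pt A ⟶ X₁) ≃ (Grassmannian.functor (R := R) (M := M₁) k).obj A}
    {e₂ : ∀ A : CommAlgCat.{u} R, (Pt A ⟶ X₂) ≃ (Grassmannian.functor (R := R) (M := M₂) k).obj A}
    (he₁ : Natural X₁ e₁) (he₂ : Natural X₂ e₂) :
    (∃ c : X₂ ⟶ X₁, ∀ (A : CommAlgCat.{u} R) (g : Pt A ⟶ X₂),
        (e₁ A (g ≫ c)).toSubmodule = (e₂ A g).toSubmodule.comap (v.baseChange A)) ∧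
      ∀ c : X₂ ⟶ X₁, (∀ (A : CommAlgCat.{u} R) (g : Pt A ⟶ X₂),
        (e₁ A (g ≫ c)).toSubmodule = (e₂ A g).toSubmodule.comap (v.baseChange A)) →
        IsClosedImmersion c.left := by
  refine ⟨?_, fun c hc => ?_⟩
  · obtain ⟨c, hc⟩ := exists_hom_of_pts (fun A g => (e₁ A).symm (comapPoint v hv (e₂ A g))) fun A B φ g => by
      apply (e₁ B).injective
      refine ((e₁ B).apply_symm_apply _).trans ?_
      refine Eq.trans ?_ (he₁.apply φ _).symm
      refine (congrArg (comapPoint v hv) (he₂.apply φ g)).trans ((map_comapPoint v hv φ.hom _).symm.trans ?_)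
      exact (congrArg (Grassmannian.map φ.hom) ((e₁ A).apply_symm_apply _)).symm
    exact ⟨c, fun A g => congrArg Grassmannian.toSubmodule
      ((congrArg (e₁ A) (hc A g)).trans ((e₁ A).apply_symm_apply _))⟩
  · have hc' : ∀ (A : CommAlgCat.{u} R) (g : Pt A ⟶ X₂),
        e₁ A (g ≫ c) = comapPoint v hv (e₂ A g) := fun A g => Grassmannian.ext (hc A g)
    obtain ⟨Z, ι, hι, hZ⟩ := he₁.exists_closed
      (fun A N => ∀ m, v m = 0 → (1 : A) ⊗ₜ[R] m ∈ N.toSubmodule) (exists_ideal_factor v)
    have hmono : ∀ (A : CommAlgCat.{u} R) (z z' : Pt A ⟶ Z), z ≫ ι = z' ≫ ι → z = z' := fun A z z' h =>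
      Over.OverMorphism.ext ((cancel_mono ι.left).mp (congrArg CommaMorphism.left h))
    have hz : ∀ (A : CommAlgCat.{u} R) (g : Pt A ⟶ X₂), ∃ z : Pt A ⟶ Z, z ≫ ι = g ≫ c := fun A g =>
      (hZ A (g ≫ c)).mpr fun m hm => by
        rw [hc', comapPoint_toSubmodule, Submodule.mem_comap]
        simp [hm]
    choose z hz using hz
    have hw : ∀ (A : CommAlgCat.{u} R) (w : Pt A ⟶ Z), ∃ g : Pt A ⟶ X₂, g ≫ c = w ≫ ι := by
      intro A w
      obtain ⟨N', hN'⟩ := exists_comapPoint v hv _ ((hZ A (w ≫ ι)).mp ⟨w, rfl⟩)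
      obtain ⟨g, rfl⟩ := (e₂ A).surjective N'
      exact ⟨g, (e₁ A).injective ((hc' A g).trans hN')⟩
    choose g hg using hw
    have hinj : ∀ (A : CommAlgCat.{u} R) (p q : Pt A ⟶ X₂), p ≫ c = q ≫ c → p = q := fun A p q h =>
      (e₂ A).injective (comapPoint_injective v hv ((hc' A p).symm.trans ((congrArg (e₁ A) h).trans (hc' A q))))
    obtain ⟨i, hi⟩ := exists_iso_of_pts (X := X₂) (Y := Z)
      (fun A => { toFun := z A
                  invFun := g A
                  left_inv := fun p => hinj A _ _ ((hg A (z A p)).trans (hz A p))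
                  right_inv := fun w => hmono A _ _ ((hz A (g A w)).trans (hg A w)) })
      fun A B φ p => hmono B _ _ ((hz B _).trans (by
        simp only [Equiv.coe_fn_mk, Category.assoc]
        rw [hz A p]))
    have hci : i.hom ≫ ι = c := hom_ext _ _ fun A p => by
      rw [← Category.assoc, hi]
      exact hz A p
    rw [← hci, Over.comp_left]
    infer_instance

end Groth.GrassRep
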