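import Mathlib

/-!
# Schemes over `Spec R` through their points with values in `R`-algebras

Morphisms of schemes over `Spec R` are determined by, and can be constructed from, their effect on
points with values in `R`-algebras (full faithfulness of the restricted Yoneda embedding).
-/

set_option autoImplicit false

universe u

open CategoryTheory CategoryTheory.Limits AlgebraicGeometry

noncomputable section

namespace Groth.GrassRep

variable {R : Type u} [CommRing R]

/-- `Spec A` over `Spec R` -/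
abbrev Pt (A : CommAlgCat.{u} R) : Over (Spec (CommRingCat.of R)) :=
  Over.mk (Spec.map (CommRingCat.ofHom (algebraMap R A)))

/-- the morphism `Spec B ⟶ Spec A` over `Spec R` of an algebra map -/
def ptMap {A B : CommAlgCat.{u} R} (φ : A ⟶ B) : Pt B ⟶ Pt A :=
  Over.homMk (Spec.map (CommRingCat.ofHom φ.hom.toRingHom)) (by
    show Spec.map _ ≫ Spec.map _ = Spec.map _
    rw [← Spec.map_comp, ← CommRingCat.ofHom_comp]
    congr 2
    exact φ.hom.comp_algebraMap)

@[simp] lemma ptMap_left {A B : CommAlgCat.{u} R} (φ : A ⟶ B) :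
    (ptMap φ).left = Spec.map (CommRingCat.ofHom φ.hom.toRingHom) := rfl

lemma left_eq_iff {A B : CommAlgCat.{u} R} {X : Over (Spec (CommRingCat.of R))} (φ : A ⟶ B)
    (g : Pt A ⟶ X) (g' : Pt B ⟶ X) :
    g'.left = Spec.map (CommRingCat.ofHom φ.hom.toRingHom) ≫ g.left ↔ g' = ptMap φ ≫ g :=
  ⟨fun h => Over.OverMorphism.ext h, fun h => by rw [h]; rfl⟩

lemma ptMap_comp {A B C : CommAlgCat.{u} R} (φ : A ⟶ B) (ψ : B ⟶ C) :
    ptMap (φ ≫ ψ) = ptMap ψ ≫ ptMap φ := by
  refine Over.OverMorphism.ext ?_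
  show Spec.map _ = Spec.map _ ≫ Spec.map _
  rw [← Spec.map_comp, ← CommRingCat.ofHom_comp]
  rfl

lemma ptMap_id (A : CommAlgCat.{u} R) : ptMap (𝟙 A) = 𝟙 (Pt A) := by
  refine Over.OverMorphism.ext ?_
  show Spec.map _ = 𝟙 _
  exact Spec.map_id _

lemma exists_ptMap {A B : CommAlgCat.{u} R} (h : Pt B ⟶ Pt A) : ∃ φ : A ⟶ B, h = ptMap φ := by
  obtain ⟨χ, hχ⟩ : ∃ χ : CommRingCat.of A ⟶ CommRingCat.of B, Spec.map χ = h.left :=
    ⟨Spec.preimage h.left, Spec.map_preimage _⟩
  have hw := Over.w h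
  rw [← hχ] at hw
  change Spec.map χ ≫ Spec.map _ = Spec.map _ at hw
  rw [← Spec.map_comp] at hw
  have hw' := Spec.map_injective hw
  refine ⟨CommAlgCat.ofHom ⟨χ.hom, fun r => ConcreteCategory.congr_hom hw' r⟩, ?_⟩
  refine Over.OverMorphism.ext ?_
  rw [← hχ]
  rfl

/-- an affine scheme over `Spec R` is the spectrum of an algebra -/
lemma exists_pt_iso (U : Over (Spec (CommRingCat.of R))) [IsAffine U.left] :
    ∃ (A : CommAlgCat.{u} R), Nonempty (Pt A ≅ U) := by
  let ρ : CommRingCat.of R ⟶ Γ(U.left, ⊤) := Spec.preimage (U.left.isoSpec.inv ≫ U.hom)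
  let _ : Algebra R Γ(U.left, ⊤) := ρ.hom.toAlgebra
  refine ⟨CommAlgCat.of R Γ(U.left, ⊤), ⟨Over.isoMk U.left.isoSpec.symm ?_⟩⟩
  show U.left.isoSpec.inv ≫ U.hom = Spec.map ρ
  exact (Spec.map_preimage _).symm

/-- every scheme over `Spec R` is covered by spectra of algebras -/
lemma exists_cover (T : Over (Spec (CommRingCat.of R))) :
    ∃ (ι : Type u) (A : ι → CommAlgCat.{u} R) (f : ∀ i, Pt (A i) ⟶ T),
      (∀ i, IsOpenImmersion (f i).left) ∧ ∀ t : T.left, ∃ i, t ∈ Set.range (f i).left := by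
  let 𝒰 := T.left.affineCover
  let U : 𝒰.I₀ → Over (Spec (CommRingCat.of R)) := fun i => Over.mk (𝒰.f i ≫ T.hom)
  have hU : ∀ i, IsAffine (U i).left := fun i => by
    show IsAffine (𝒰.X i); infer_instance
  choose A hA using fun i => exists_pt_iso (U i)
  refine ⟨𝒰.I₀, A, fun i => (hA i).some.hom ≫ Over.homMk (𝒰.f i) rfl, fun i => ?_, fun t => ?_⟩
  · show IsOpenImmersion ((hA i).some.hom.left ≫ 𝒰.f i)
    infer_instance
  · obtain ⟨i, y, hy⟩ := 𝒰.exists_eq t
    refine ⟨i, (hA i).some.inv.left y, ?_⟩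
    show ((hA i).some.hom.left ≫ 𝒰.f i) ((hA i).some.inv.left y) = t
    rw [Scheme.Hom.comp_apply, ← Scheme.Hom.comp_apply (hA i).some.inv.left, ← Over.comp_left,
      Iso.inv_hom_id]
    exact hy

/-- a jointly surjective family of open immersions as an open cover -/
def coverOf {ι : Type u} {X : Scheme.{u}} {U : ι → Scheme.{u}} (f : ∀ i, U i ⟶ X)
    [∀ i, IsOpenImmersion (f i)] (h : ∀ t : X, ∃ i, t ∈ Set.range (f i)) : X.OpenCover where
  I₀ := ι
  X := U
  f := f
  mem₀ := by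
    rw [Scheme.presieve₀_mem_precoverage_iff]
    exact ⟨h, fun i => inferInstance⟩

variable {X Y : Over (Spec (CommRingCat.of R))}

/-- morphisms over `Spec R` are determined by their effect on points -/
theorem hom_ext (c c' : X ⟶ Y) (h : ∀ (A : CommAlgCat.{u} R) (g : Pt A ⟶ X), g ≫ c = g ≫ c') :
    c = c' := by
  obtain ⟨ι, A, f, hf, hcov⟩ := exists_cover X
  refine Over.OverMorphism.ext ((coverOf (fun i => (f i).left) hcov).hom_ext _ _ fun i => ?_)
  exact congrArg CommaMorphism.left (h _ (f i))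

/-- glue morphisms given on a cover by points -/
theorem exists_glue {ι : Type u} {A : ι → CommAlgCat.{u} R} (f : ∀ i, Pt (A i) ⟶ X)
    [∀ i, IsOpenImmersion (f i).left] (hcov : ∀ t : X.left, ∃ i, t ∈ Set.range (f i).left)
    (g : ∀ i, Pt (A i) ⟶ Y)
    (h : ∀ i j (B : CommAlgCat.{u} R) (a : Pt B ⟶ Pt (A i)) (b : Pt B ⟶ Pt (A j)),
      a ≫ f i = b ≫ f j → a ≫ g i = b ≫ g j) :
    ∃ c : X ⟶ Y, ∀ i, f i ≫ c = g i := by
  let 𝒰 := coverOf (fun i => (f i).left) hcov
  have hc : ∀ i j : ι, pullback.fst (f i).left (f j).left ≫ (g i).left =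
      pullback.snd (f i).left (f j).left ≫ (g j).left := by
    intro i j
    let P : Over (Spec (CommRingCat.of R)) :=
      Over.mk (pullback.fst (f i).left (f j).left ≫ (Pt (A i)).hom)
    let p : P ⟶ Pt (A i) := Over.homMk (pullback.fst (f i).left (f j).left) rfl
    let q : P ⟶ Pt (A j) := Over.homMk (pullback.snd (f i).left (f j).left) (by
      show pullback.snd (f i).left (f j).left ≫ (Pt (A j)).hom =
        pullback.fst (f i).left (f j).left ≫ (Pt (A i)).hom
      rw [← Over.w (f j), ← Over.w (f i), pullback.condition_assoc])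
    have hpq : p ≫ f i = q ≫ f j := Over.OverMorphism.ext pullback.condition
    exact congrArg CommaMorphism.left (hom_ext (p ≫ g i) (q ≫ g j) fun B w => by
      rw [← Category.assoc, ← Category.assoc]
      exact h i j B _ _ (by rw [Category.assoc, Category.assoc, hpq]))
  let c₀ := Scheme.Cover.glueMorphisms 𝒰 (fun i => (g i).left) hc
  have hc₀ : ∀ i, (f i).left ≫ c₀ = (g i).left := fun i =>
    Scheme.Cover.ι_glueMorphisms 𝒰 _ hc i
  refine ⟨Over.homMk c₀ (𝒰.hom_ext _ _ fun i => ?_), fun i => Over.OverMorphism.ext (hc₀ i)⟩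
  show (f i).left ≫ c₀ ≫ Y.hom = (f i).left ≫ X.hom
  rw [reassoc_of% hc₀ i, Over.w (g i), Over.w (f i)]

/-- a natural family of maps on points is a morphism -/
theorem exists_hom_of_pts (F : ∀ A : CommAlgCat.{u} R, (Pt A ⟶ X) → (Pt A ⟶ Y))
    (hF : ∀ (A B : CommAlgCat.{u} R) (φ : A ⟶ B) (g : Pt A ⟶ X),
      F B (ptMap φ ≫ g) = ptMap φ ≫ F A g) :
    ∃ c : X ⟶ Y, ∀ (A : CommAlgCat.{u} R) (g : Pt A ⟶ X), g ≫ c = F A g := by
  have hF' : ∀ (A B : CommAlgCat.{u} R) (a : Pt B ⟶ Pt A) (g : Pt A ⟶ X), F B (a ≫ g) = a ≫ F A g := by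
    intro A B a g
    obtain ⟨φ, rfl⟩ := exists_ptMap a
    exact hF A B φ g
  obtain ⟨ι, A, f, hf, hcov⟩ := exists_cover X
  obtain ⟨c, hc⟩ := exists_glue f hcov (fun i => F (A i) (f i)) fun i j B a b hab => by
    rw [← hF', ← hF', hab]
  refine ⟨c, fun B g => ?_⟩
  -- cover `Spec B` by affine pieces landing in the cover
  let 𝒱 := (coverOf (fun i => (f i).left) hcov).pullback₁ g.left
  have hkey : ∀ (i : ι) (W : Over (Spec (CommRingCat.of R))) (p : W ⟶ Pt B) (q : W ⟶ Pt (A i)),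
      p ≫ g = q ≫ f i → p ≫ g ≫ c = p ≫ F B g := by
    intro i W p q hpq
    refine hom_ext _ _ fun C w => ?_
    rw [← Category.assoc p g c, hpq, Category.assoc, hc, ← Category.assoc, ← Category.assoc,
      ← hF', ← hF', Category.assoc, Category.assoc, hpq]
  refine Over.OverMorphism.ext (Scheme.Cover.hom_ext 𝒱 _ _ fun i => ?_)
  show pullback.fst g.left (f i).left ≫ _ = pullback.fst g.left (f i).left ≫ _
  let W : Over (Spec (CommRingCat.of R)) :=
    Over.mk (pullback.fst g.left (f i).left ≫ (Pt B).hom)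
  let p : W ⟶ Pt B := Over.homMk (pullback.fst g.left (f i).left) rfl
  let q : W ⟶ Pt (A i) := Over.homMk (pullback.snd g.left (f i).left) (by
    show pullback.snd g.left (f i).left ≫ (Pt (A i)).hom =
      pullback.fst g.left (f i).left ≫ (Pt B).hom
    rw [← Over.w g, ← Over.w (f i), pullback.condition_assoc])
  exact congrArg CommaMorphism.left (hkey i W p q (Over.OverMorphism.ext pullback.condition))

/-- a natural family of bijections on points is an isomorphism -/
theorem exists_iso_of_pts (F : ∀ A : CommAlgCat.{u} R, (Pt A ⟶ X) ≃ (Pt A ⟶ Y))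
    (hF : ∀ (A B : CommAlgCat.{u} R) (φ : A ⟶ B) (g : Pt A ⟶ X),
      F B (ptMap φ ≫ g) = ptMap φ ≫ F A g) :
    ∃ c : X ≅ Y, ∀ (A : CommAlgCat.{u} R) (g : Pt A ⟶ X), g ≫ c.hom = F A g := by
  obtain ⟨c, hc⟩ := exists_hom_of_pts (fun A => ⇑(F A)) hF
  obtain ⟨d, hd⟩ := exists_hom_of_pts (fun A => ⇑(F A).symm) fun A B φ g => by
    apply (F B).injective
    rw [Equiv.apply_symm_apply, hF, Equiv.apply_symm_apply]
  refine ⟨⟨c, d, ?_, ?_⟩, hc⟩
  · refine hom_ext _ _ fun A g => ?_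
    rw [← Category.assoc, hc, hd, Equiv.symm_apply_apply, Category.comp_id]
  · refine hom_ext _ _ fun A g => ?_
    rw [← Category.assoc, hd, hc, Equiv.apply_symm_apply, Category.comp_id]

end Groth.GrassRep
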