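import Groth.Agent.AlgGrp2.ClosedRep
import Groth.Agent.QCohMod.PullbackSections
import Groth.Agent.QCohMod.Category
import Groth.Agent.PicAux.FreeBasis
import Groth.Agent.LocFree.Basic

/-!
# The vanishing locus of a map into a finite locally free module is a closed subscheme
-/

set_option autoImplicit false

universe u

open CategoryTheory CategoryTheory.Limits AlgebraicGeometry Opposite TopologicalSpace TensorProduct
open Groth.PicAux (res res_res res_self app_res res_ext pullSec pullSec_map pullSec_smul res_pullSec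
  Basis')

noncomputable section

namespace Groth.GrassRep

variable {X Y : Scheme.{u}}

/-- a morphism of modules vanishes if it vanishes on affines refining a cover -/
lemma hom_eq_zero_of_affines {M N : X.Modules} (φ : M ⟶ N) {ι : Type*} (U : ι → X.Opens)
    (hU : ∀ x : X, ∃ i, x ∈ U i)
    (h : ∀ (i : ι) (W : X.Opens), IsAffineOpen W → W ≤ U i → ∀ s, φ.app W s = 0) : φ = 0 := by
  apply Scheme.Modules.hom_ext
  intro V
  ext s
  refine res_ext (fun p : {p : ι × X.affineOpens // p.2.1 ≤ V ⊓ U p.1} => p.1.2.1)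
    (fun p => p.2.trans inf_le_left) (fun x hx => ?_) fun p => ?_
  · obtain ⟨i, hi⟩ := hU x
    obtain ⟨_, ⟨W, hW, rfl⟩, hxW, hWV⟩ :=
      X.isBasis_affineOpens.exists_subset_of_mem_open (show x ∈ (V ⊓ U i : X.Opens) from ⟨hx, hi⟩)
        (V ⊓ U i).2
    exact Opens.mem_iSup.2 ⟨⟨(i, ⟨W, hW⟩), hWV⟩, hxW⟩
  · refine (app_res φ _ s).symm.trans ((h p.1.1 p.1.2.1 p.1.2.2 (p.2.trans inf_le_right) _).trans ?_)
    exact (map_zero (N.presheaf.map _).hom).symm

/-- the pullback of `ψ` vanishes if the pullbacks of the images of the sections over affines do -/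
lemma pullback_map_eq_zero {M N : Y.Modules} [M.IsQuasicoherent] (f : X ⟶ Y) (ψ : M ⟶ N)
    {ι : Type*} (U : ι → Y.Opens) (hA : ∀ i, IsAffineOpen (U i)) (hU : ∀ x : X, ∃ i, x ∈ f ⁻¹ᵁ U i)
    (h : ∀ (i : ι) (m : Γ(M, U i)), pullSec f N (ψ.app (U i) m) = 0) :
    (Scheme.Modules.pullback f).map ψ = 0 := by
  refine hom_eq_zero_of_affines _ (fun i => f ⁻¹ᵁ U i) hU fun i W hW hWU s => ?_
  let _ := Groth.QCohMod.sectionsAlg f hWU
  obtain ⟨z, rfl⟩ := (Groth.QCohMod.pullSecTensor_bijective f M hWU (hA i) hW).2 s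
  induction z using TensorProduct.induction_on with
  | zero => simp
  | tmul b m =>
    rw [Groth.QCohMod.pullSecTensor_tmul, Scheme.Modules.Hom.app_smul]
    refine smul_eq_zero_of_right _ ?_
    refine ((app_res _ _ _).trans (congrArg _ (pullSec_map f ψ m))).trans ?_
    rw [h i m]
    exact map_zero _
  | add a b ha hb => rw [map_add, map_add, ha, hb, add_zero]

lemma pullSec_eq_zero_of_map_eq_zero {M N : Y.Modules} (f : X ⟶ Y) (ψ : M ⟶ N)
    (h : (Scheme.Modules.pullback f).map ψ = 0) {U : Y.Opens} (m : Γ(M, U)) :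
    pullSec f N (ψ.app U m) = 0 := by
  rw [← pullSec_map, h]
  rfl

/-- the vanishing locus of a map from a quasi-coherent module to a finite locally free one -/
theorem exists_vanishing_locus {M Q : Y.Modules} [M.IsQuasicoherent] (hQ : FlatMod.IsFinLocFree Q)
    (ψ : M ⟶ Q) :
    ∃ (Z : Scheme.{u}) (i : Z ⟶ Y), IsClosedImmersion i ∧ ∀ (W : Scheme.{u}) (f : W ⟶ Y),
      (Scheme.Modules.pullback f).map ψ = 0 ↔ ∃ z, z ≫ i = f := by
  refine Groth.AlgGrp2.exists_closed_of_hasIdeal
    (Φ := fun {W} f => (Scheme.Modules.pullback f).map ψ = 0) ?_ ?_ ?_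
  · intro V W g f hf
    have h1 := (Scheme.Modules.pullbackComp g f).hom.naturality ψ
    rw [Functor.comp_map, hf, Functor.map_zero, zero_comp] at h1
    rw [← cancel_epi ((Scheme.Modules.pullbackComp g f).hom.app M), ← h1, comp_zero]
  · intro W f 𝒰 h
    refine hom_eq_zero_of_affines _ (fun i => (𝒰.f i).opensRange) (fun x => ?_) fun i V hV hVU s => ?_
    · obtain ⟨i, y, hy⟩ := 𝒰.exists_eq x
      exact ⟨i, y, hy⟩
    have h1 := (Scheme.Modules.pullbackComp (𝒰.f i) f).inv.naturality ψ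
    rw [h i, zero_comp, Functor.comp_map] at h1
    have h2 : (Scheme.Modules.pullback (𝒰.f i)).map ((Scheme.Modules.pullback f).map ψ) = 0 := by
      rw [← cancel_epi ((Scheme.Modules.pullbackComp (𝒰.f i) f).inv.app M), ← h1, comp_zero]
    have h3 : (Scheme.Modules.restrictFunctor (𝒰.f i)).map ((Scheme.Modules.pullback f).map ψ) = 0 := by
      rw [← cancel_mono ((Scheme.Modules.restrictFunctorIsoPullback (𝒰.f i)).hom.app _),
        NatTrans.naturality, h2, comp_zero, zero_comp]
    have hV' : 𝒰.f i ''ᵁ (𝒰.f i ⁻¹ᵁ V) = V := by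
      rw [Scheme.Hom.image_preimage_eq_opensRange_inf, inf_eq_right.mpr hVU]
    have key : ∀ t : Γ((Scheme.Modules.pullback f).obj M, 𝒰.f i ''ᵁ (𝒰.f i ⁻¹ᵁ V)),
        ((Scheme.Modules.pullback f).map ψ).app (𝒰.f i ''ᵁ (𝒰.f i ⁻¹ᵁ V)) t = 0 := fun t =>
      congr(($h3).app (𝒰.f i ⁻¹ᵁ V) t)
    rw [hV'] at key
    exact key s
  · intro x
    obtain ⟨U, n, e, hA, hxU, he⟩ := Groth.LocFree.exists_affine_basis hQ x
    have hcoef : ∀ m : Γ(M, U), ∃ r : Fin n → Γ(Y, U), ∑ j, r j • e j = ψ.app U m := fun m => by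
      obtain ⟨r, hr⟩ := (he U le_rfl).2 (ψ.app U m)
      exact ⟨r, by simpa [res_self] using hr⟩
    choose r hr using hcoef
    refine ⟨⟨U, hA⟩, hxU, Ideal.span (Set.range fun p : Γ(M, U) × Fin n => r p.1 p.2), fun C φ => ?_⟩
    set f := Spec.map φ ≫ hA.fromSpec with hf
    have hpre : f ⁻¹ᵁ U = ⊤ := by
      rw [hf, Scheme.Hom.comp_preimage, hA.fromSpec_preimage_self]
      rfl
    have happ : ∀ a : Γ(Y, U), f.app U a = 0 ↔ φ a = 0 := by
      intro a
      have key : ∀ hp : (Spec.map φ ≫ hA.fromSpec) ⁻¹ᵁ U = ⊤, (Spec.map φ ≫ hA.fromSpec).app U =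
          φ ≫ (Scheme.ΓSpecIso C).inv ≫ (Spec C).presheaf.map (eqToHom hp).op := by
        intro hp
        rw [Scheme.Hom.comp_app, hA.fromSpec_app_self, Category.assoc, Scheme.Hom.naturality]
        exact ((reassoc_of% Scheme.ΓSpecIso_inv_naturality φ) _).symm
      rw [show f.app U = φ ≫ (Scheme.ΓSpecIso C).inv ≫ (Spec C).presheaf.map (eqToHom hpre).op from key hpre]
      exact map_eq_zero_iff _ ((ConcreteCategory.bijective_of_isIso
        ((Scheme.ΓSpecIso C).inv ≫ (Spec C).presheaf.map (eqToHom hpre).op)).1)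
    have hcomb : ∀ m : Γ(M, U), pullSec f Q (ψ.app U m) = ∑ j, f.app U (r m j) • pullSec f Q (e j) := by
      intro m
      rw [← hr]
      exact (map_sum (((Scheme.Modules.pullbackPushforwardAdjunction f).unit.app Q).app U).hom _ _).trans
        (Finset.sum_congr rfl fun j _ => pullSec_smul f Q _ _)
    have hb := ((he.pull f) _ le_rfl).1
    rw [Ideal.span_le]
    constructor
    · rintro h _ ⟨⟨m, j⟩, rfl⟩
      have h0 := pullSec_eq_zero_of_map_eq_zero f ψ h m
      rw [hcomb] at h0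
      have := @hb (fun j => f.app U (r m j)) 0 (by simpa [res_self] using h0)
      exact (happ _).mp (congrFun this j)
    · intro h
      refine pullback_map_eq_zero f ψ (fun _ : PUnit.{1} => U) (fun _ => hA)
        (fun y => ⟨⟨⟩, by rw [hpre]; trivial⟩) fun _ m => ?_
      rw [hcomb]
      exact Finset.sum_eq_zero fun j _ => by
        rw [(happ _).mpr (h ⟨(m, j), rfl⟩), zero_smul]

end Groth.GrassRep
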