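import Groth.Agent.GrassRep.QuotBC
import Groth.Agent.GrassRep.Locus

/-!
# The morphism of Grassmannians of an epimorphism of quasi-coherent modules is a closed immersion
-/

set_option autoImplicit false

universe u

open CategoryTheory CategoryTheory.Limits AlgebraicGeometry

noncomputable section

namespace Groth.GrassRep

variable {X G T : Scheme.{u}} {π : G ⟶ X} {E E' : X.Modules} {Q : G.Modules}

lemma quotBC_map {h : T ⟶ G} {g : T ⟶ X} (hg : h ≫ π = g) (v : E' ⟶ E)
    (q : (Scheme.Modules.pullback π).obj E ⟶ Q) :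
    Grass.quotBC hg ((Scheme.Modules.pullback π).map v ≫ q) =
      (Scheme.Modules.pullback g).map v ≫ Grass.quotBC hg q := by
  simp only [Grass.quotBC, Functor.map_comp]
  rw [(Scheme.Modules.pullbackCongr hg).inv.naturality_assoc,
    (Scheme.Modules.pullbackComp h π).inv.naturality_assoc]
  rfl

lemma quotBC_id (hg : 𝟙 G ≫ π = π) (q : (Scheme.Modules.pullback π).obj E ⟶ Q) :
    Grass.quotBC hg q ≫ (Scheme.Modules.pullbackId G).hom.app Q = q := by
  have h1 := congrArg (fun α => NatTrans.app α E) (Scheme.Modules.pseudofunctor_right_unitality (f := π))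
  simp only [NatTrans.comp_app, Functor.whiskerLeft_app, Functor.rightUnitor_hom_app,
    eqToHom_app, Category.comp_id] at h1
  have h2 : (Scheme.Modules.pullbackCongr hg).inv.app E = eqToHom (by rw [hg]) := by
    simp [Scheme.Modules.pullbackCongr, eqToHom_app]
  simp only [Grass.quotBC, Category.assoc]
  rw [(Scheme.Modules.pullbackId G).hom.naturality q, h2, reassoc_of% h1, eqToHom_trans_assoc,
    eqToHom_refl, Category.id_comp]
  rfl

/-- maps out of the inverse image killing the inverse image of the kernel factor through an epimorphism -/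
lemma exists_factor_of_epi (g : T ⟶ X) (v : E' ⟶ E) [Epi v] {L : T.Modules}
    (s : (Scheme.Modules.pullback g).obj E' ⟶ L)
    (h : (Scheme.Modules.pullback g).map (kernel.ι v) ≫ s = 0) :
    ∃ s' : (Scheme.Modules.pullback g).obj E ⟶ L, (Scheme.Modules.pullback g).map v ≫ s' = s := by
  let adj := Scheme.Modules.pullbackPushforwardAdjunction g
  have ht : kernel.ι v ≫ adj.homEquiv _ _ s = 0 := by
    rw [← Adjunction.homEquiv_naturality_left, h, Adjunction.homEquiv_unit, Functor.map_zero, comp_zero]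
  refine ⟨(adj.homEquiv _ _).symm (Abelian.epiDesc v _ ht), ?_⟩
  rw [← Adjunction.homEquiv_naturality_left_symm, Abelian.comp_epiDesc, Equiv.symm_apply_apply]

variable {G₁ G₂ : Scheme.{u}} {π₁ : G₁ ⟶ X} {π₂ : G₂ ⟶ X} {E₁ E₂ : X.Modules} {e : ℕ}
  {Q₁ : G₁.Modules} {q₁ : (Scheme.Modules.pullback π₁).obj E₁ ⟶ Q₁}
  {Q₂ : G₂.Modules} {q₂ : (Scheme.Modules.pullback π₂).obj E₂ ⟶ Q₂}

/-- the morphism induced by an epimorphism is a closed immersion -/
theorem isClosedImmersion_mapOfEpi (hE₁ : Coh.IsQCoh E₁) (hE₂ : Coh.IsQCoh E₂) (v : E₁ ⟶ E₂) [Epi v]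
    (hG₁ : Grass.IsGrass π₁ E₁ e Q₁ q₁) (hG₂ : Grass.IsGrass π₂ E₂ e Q₂ q₂) :
    IsClosedImmersion (hG₁.mapOfEpi hG₂ v) := by
  have : E₁.IsQuasicoherent := hE₁
  have : E₂.IsQuasicoherent := hE₂
  have : (kernel v).IsQuasicoherent := inferInstance
  have : ((Scheme.Modules.pullback π₁).obj (kernel v)).IsQuasicoherent := inferInstance
  let ψ := (Scheme.Modules.pullback π₁).map (kernel.ι v) ≫ q₁
  obtain ⟨Z, i, hi, hZ⟩ :=
    exists_vanishing_locus (Groth.LocFree.isFinLocFree_of_rank hG₁.rank) ψ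
  have hvan : ∀ {T : Scheme.{u}} (f : T ⟶ G₁) (g : T ⟶ X) (hg : f ≫ π₁ = g),
      (Scheme.Modules.pullback f).map ψ = 0 ↔
        (Scheme.Modules.pullback g).map (kernel.ι v) ≫ Grass.quotBC hg q₁ = 0 := by
    intro T f g hg
    rw [← quotBC_map hg (kernel.ι v) q₁]
    constructor
    · intro h
      show (_ ≫ _ ≫ (Scheme.Modules.pullback f).map ψ) = 0
      rw [h, comp_zero, comp_zero]
    · intro h
      change (_ ≫ _ ≫ (Scheme.Modules.pullback f).map ψ) = 0 at h
      rw [← cancel_epi ((Scheme.Modules.pullbackComp f π₁).inv.app (kernel v)),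
        ← cancel_epi ((Scheme.Modules.pullbackCongr hg).inv.app (kernel v)), comp_zero, comp_zero]
      exact h
  have he2 := hG₂.epi
  have := Grass.epi_pullback_map π₂ v
  set c := hG₁.mapOfEpi hG₂ v with hcdef
  have hc : c ≫ π₁ = π₂ := hG₁.mapOfEpi_comp hG₂ v
  obtain ⟨ec, hec⟩ : ∃ ec : (Scheme.Modules.pullback c).obj Q₁ ≅ Q₂,
      Grass.quotBC hc q₁ ≫ ec.hom = (Scheme.Modules.pullback π₂).map v ≫ q₂ :=
    ⟨_, hG₁.quotBC_liftIso _ _ hG₂.rank _ (epi_comp _ _)⟩
  -- factorisation of `c`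
  obtain ⟨z, hz⟩ := (hZ _ c).mp <| (hvan c π₂ hc).mpr <| by
    rw [← cancel_mono ec.hom, Category.assoc, hec, ← Functor.map_comp_assoc, kernel.condition,
      Functor.map_zero, zero_comp, zero_comp]
  -- the inverse
  set g := i ≫ π₁
  have hzero : (Scheme.Modules.pullback g).map (kernel.ι v) ≫ Grass.quotBC (rfl : i ≫ π₁ = g) q₁ = 0 :=
    (hvan i g rfl).mp ((hZ Z i).mpr ⟨𝟙 Z, Category.id_comp i⟩)
  obtain ⟨s', hs'⟩ := exists_factor_of_epi g v _ hzero
  have hs'epi : Epi s' := by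
    have := hG₁.epi
    have := epi_quotBC (rfl : i ≫ π₁ = g) q₁
    have : Epi ((Scheme.Modules.pullback g).map v ≫ s') := by rw [hs']; infer_instance
    exact epi_of_epi ((Scheme.Modules.pullback g).map v) s'
  have hL := Groth.LocFree.isFinLocFreeOfRank_pullback i hG₁.rank
  set w := hG₂.lift g _ hL s' hs'epi
  have hw : w ≫ π₂ = g := hG₂.lift_comp _ _ _ _ _
  have hwe : Grass.quotBC hw q₂ ≫ (hG₂.liftIso g _ hL s' hs'epi).hom = s' := hG₂.quotBC_liftIso _ _ _ _ _
  -- `w ≫ c = i`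
  have hwc : w ≫ c = i := by
    have hepi : Epi (Grass.quotBC (rfl : i ≫ π₁ = g) q₁) := by
      have := hG₁.epi
      exact epi_quotBC _ _
    refine (hG₁.univ Z g _ hL _ hepi).unique ⟨by rw [Category.assoc, hc, hw],
      ((Scheme.Modules.pullbackComp w c).app Q₁).symm ≪≫ (Scheme.Modules.pullback w).mapIso ec ≪≫
        hG₂.liftIso g _ hL s' hs'epi, ?_⟩ ⟨rfl, Iso.refl _, Category.comp_id _⟩
    simp only [Iso.trans_hom, Iso.symm_hom, Iso.app_inv, Functor.mapIso_hom]
    rw [← Category.assoc _ ((Scheme.Modules.pullback w).map ec.hom), ← Category.assoc (Grass.quotBC _ _),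
      quotBC_base_change hw hc q₁ _ ec hec, quotBC_map hw, Category.assoc, hwe, hs']
  -- `z ≫ w = 𝟙`
  have hzg : z ≫ g = π₂ := by rw [← hc, ← hz, Category.assoc]
  have hzs : Grass.quotBC hzg s' ≫
      ((Scheme.Modules.pullbackComp z i).app Q₁ ≪≫ (Scheme.Modules.pullbackCongr hz).app Q₁ ≪≫ ec).hom = q₂ := by
    rw [← cancel_epi ((Scheme.Modules.pullback π₂).map v), ← Category.assoc, ← quotBC_map hzg v s', hs',
      quotBC_quotBC hzg rfl q₁, Iso.trans_hom, Iso.trans_hom, Iso.app_hom, Iso.app_hom, Category.assoc,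
      Iso.inv_hom_id_app_assoc, quotBC_congr hz _ q₁, Category.assoc, Iso.inv_hom_id_app_assoc, hec]
  have hzw : z ≫ w = 𝟙 G₂ := by
    refine (hG₂.univ G₂ π₂ Q₂ hG₂.rank q₂ hG₂.epi).unique ⟨by rw [Category.assoc, hw, hzg],
      ((Scheme.Modules.pullbackComp z w).app Q₂).symm ≪≫
        (Scheme.Modules.pullback z).mapIso (hG₂.liftIso g _ hL s' hs'epi) ≪≫
        (Scheme.Modules.pullbackComp z i).app Q₁ ≪≫ (Scheme.Modules.pullbackCongr hz).app Q₁ ≪≫ ec, ?_⟩
      ⟨Category.id_comp _, (Scheme.Modules.pullbackId G₂).app Q₂, quotBC_id (Category.id_comp _) q₂⟩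
    rw [Iso.trans_hom, Iso.trans_hom, Iso.symm_hom, Iso.app_inv, Functor.mapIso_hom,
      ← Category.assoc _ ((Scheme.Modules.pullback z).map _), ← Category.assoc (Grass.quotBC _ _),
      quotBC_base_change hzg hw q₂ _ _ hwe]
    exact hzs
  have hwz : w ≫ z = 𝟙 Z := by
    rw [← cancel_mono i, Category.assoc, hz, hwc, Category.id_comp]
  have : IsIso z := ⟨⟨w, hzw, hwz⟩⟩
  rw [← hz]
  infer_instance

end Groth.GrassRep
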