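import Mathlib

/-!
# The Grassmannian functor: charts, base change, closed conditions, locality

Base change of a point of `Module.Grassmannian` along an algebra map is spanned by the image of the
submodule; points in the chart of a `k`-tuple of elements of `M` are the same as linear maps
`M → A^k` sending the tuple to the standard basis; every point is locally in a chart; points glue.
-/

set_option autoImplicit false

universe u

open TensorProduct Module

noncomputable section

namespace Groth.GrassRep

variable {R : Type u} [CommRing R] {M : Type u} [AddCommGroup M] [Module R M] {k : ℕ}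
variable {A B C : Type u} [CommRing A] [Algebra R A] [CommRing B] [Algebra R B] [CommRing C] [Algebra R C]

/-- the change of rings `A ⊗ M → B ⊗ M` -/
def iota (f : A →ₐ[R] B) : A ⊗[R] M →ₗ[R] B ⊗[R] M := f.toLinearMap.rTensor M

@[simp] lemma iota_tmul (f : A →ₐ[R] B) (a : A) (m : M) : iota f (a ⊗ₜ[R] m) = f a ⊗ₜ[R] m := rfl

lemma iota_smul (f : A →ₐ[R] B) (a : A) (z : A ⊗[R] M) : iota f (a • z) = f a • iota f z := by
  induction z using TensorProduct.induction_on with
  | zero => simp
  | tmul c m => simp [TensorProduct.smul_tmul', smul_eq_mul]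
  | add x y hx hy => simp only [smul_add, map_add, hx, hy]

lemma iota_comp (g : B →ₐ[R] C) (f : A →ₐ[R] B) (z : A ⊗[R] M) :
    iota (g.comp f) z = iota g (iota f z) := by
  induction z using TensorProduct.induction_on with
  | zero => simp
  | tmul c m => simp
  | add x y hx hy => simp only [map_add, hx, hy]

lemma one_tmul_span (x : A ⊗[R] M) :
    x ∈ Submodule.span A (Set.range fun m : M => (1 : A) ⊗ₜ[R] m) := by
  induction x using TensorProduct.induction_on with
  | zero => exact zero_mem _
  | tmul a m =>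
    rw [show a ⊗ₜ[R] m = a • ((1 : A) ⊗ₜ[R] m) by simp [TensorProduct.smul_tmul', smul_eq_mul]]
    exact Submodule.smul_mem _ _ (Submodule.subset_span ⟨m, rfl⟩)
  | add x y hx hy => exact add_mem hx hy

section Algebra

variable [Algebra A B] [IsScalarTower R A B]

lemma map_toSubmodule_eq (N : Grassmannian A (A ⊗[R] M) k) :
    (Grassmannian.map (IsScalarTower.toAlgHom R A B) N).toSubmodule =
      (Grassmannian.baseChangeMkQ B N.toSubmodule).ker := by
  have aux : ∀ (f : A →ₐ[R] B) (a : Algebra A B) (_ : IsScalarTower R A B),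
      f.toRingHom.toAlgebra = a →
        (Grassmannian.map f N).toSubmodule =
          (Grassmannian.baseChangeMkQ B N.toSubmodule).ker := by
    intro f a _ h
    subst h
    exact Grassmannian.map_toSubmodule f N
  exact aux _ _ _ (Algebra.algebra_ext _ _ fun r => rfl)

lemma baseChangeMkQ_iota (N : Submodule A (A ⊗[R] M)) (z : A ⊗[R] M) :
    Grassmannian.baseChangeMkQ B N (iota (IsScalarTower.toAlgHom R A B) z) =
      (1 : B) ⊗ₜ[A] N.mkQ z := by
  induction z using TensorProduct.induction_on with
  | zero => simp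
  | tmul a m =>
    simp only [iota_tmul, IsScalarTower.coe_toAlgHom', Grassmannian.baseChangeMkQ,
      LinearMap.comp_apply, LinearEquiv.coe_coe, AlgebraTensorModule.cancelBaseChange_symm_tmul,
      LinearMap.baseChange_tmul]
    rw [show a ⊗ₜ[R] m = a • ((1 : A) ⊗ₜ[R] m) by simp [TensorProduct.smul_tmul', smul_eq_mul],
      map_smul, ← TensorProduct.smul_tmul, Algebra.smul_def, mul_one]
  | add x y hx hy => simp only [map_add, hx, hy, TensorProduct.tmul_add]

lemma mem_map_iff (N : Grassmannian A (A ⊗[R] M) k) (z : A ⊗[R] M) :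
    iota (IsScalarTower.toAlgHom R A B) z ∈
        (Grassmannian.map (IsScalarTower.toAlgHom R A B) N).toSubmodule ↔
      (1 : B) ⊗ₜ[A] N.toSubmodule.mkQ z = 0 := by
  rw [map_toSubmodule_eq, LinearMap.mem_ker, baseChangeMkQ_iota]

lemma map_eq_span_aux (N : Grassmannian A (A ⊗[R] M) k) :
    (Grassmannian.map (IsScalarTower.toAlgHom R A B) N).toSubmodule =
      Submodule.span B (iota (IsScalarTower.toAlgHom R A B) '' (N.toSubmodule : Set (A ⊗[R] M))) := by
  set f := IsScalarTower.toAlgHom R A B
  set S := Submodule.span B (iota f '' (N.toSubmodule : Set (A ⊗[R] M)))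
  refine le_antisymm ?_ (Submodule.span_le.mpr ?_)
  · rw [map_toSubmodule_eq]
    let h : A ⊗[R] M →ₗ[A] (B ⊗[R] M) ⧸ S :=
      { toFun := fun z => S.mkQ (iota f z)
        map_add' := fun x y => by simp
        map_smul' := fun a z => by
          simp only [iota_smul, map_smul, RingHom.id_apply]
          exact algebraMap_smul B a (S.mkQ (iota f z)) }
    let h' : ((A ⊗[R] M) ⧸ N.toSubmodule) →ₗ[A] (B ⊗[R] M) ⧸ S :=
      N.toSubmodule.liftQ h fun z hz => by
        rw [LinearMap.mem_ker]
        exact (Submodule.Quotient.mk_eq_zero S).mpr (Submodule.subset_span ⟨z, hz, rfl⟩)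
    have hcomp : (h'.liftBaseChange B).comp (Grassmannian.baseChangeMkQ B N.toSubmodule) = S.mkQ := by
      refine LinearMap.ext fun x => ?_
      induction one_tmul_span x using Submodule.span_induction with
      | mem y hy =>
        obtain ⟨m, rfl⟩ := hy
        dsimp only
        rw [LinearMap.comp_apply, show (1 : B) ⊗ₜ[R] m = iota f ((1 : A) ⊗ₜ[R] m) by simp [f],
          baseChangeMkQ_iota, LinearMap.liftBaseChange_tmul, one_smul]
        rfl
      | zero => simp
      | add x y _ _ hx hy => simp only [map_add, hx, hy]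
      | smul b x _ hx => simp only [map_smul, hx]
    intro x hx
    rw [← Submodule.Quotient.mk_eq_zero S, ← Submodule.mkQ_apply, ← hcomp, LinearMap.comp_apply,
      LinearMap.mem_ker.mp hx, map_zero]
  · rintro _ ⟨z, hz, rfl⟩
    rw [SetLike.mem_coe, mem_map_iff, Submodule.mkQ_apply, (Submodule.Quotient.mk_eq_zero _).mpr hz,
      TensorProduct.tmul_zero]

end Algebra

lemma exists_tower (f : A →ₐ[R] B) :
    ∃ (_ : Algebra A B) (_ : IsScalarTower R A B), f = IsScalarTower.toAlgHom R A B := by
  let _ : Algebra A B := f.toRingHom.toAlgebra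
  have _ : IsScalarTower R A B := IsScalarTower.of_algebraMap_eq fun r => (f.commutes r).symm
  exact ⟨inferInstance, inferInstance, AlgHom.ext fun a => rfl⟩

theorem map_eq_span (f : A →ₐ[R] B) (N : Grassmannian A (A ⊗[R] M) k) :
    (Grassmannian.map f N).toSubmodule =
      Submodule.span B (iota f '' (N.toSubmodule : Set (A ⊗[R] M))) := by
  obtain ⟨_, _, rfl⟩ := exists_tower f
  exact map_eq_span_aux N

lemma iota_mem_map (f : A →ₐ[R] B) (N : Grassmannian A (A ⊗[R] M) k) {z : A ⊗[R] M}
    (hz : z ∈ N.toSubmodule) : iota f z ∈ (Grassmannian.map f N).toSubmodule := by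
  rw [map_eq_span]
  exact Submodule.subset_span ⟨z, hz, rfl⟩

lemma map_id' (N : Grassmannian A (A ⊗[R] M) k) : Grassmannian.map (AlgHom.id R A) N = N :=
  Grassmannian.map_id k (CommAlgCat.of R A) N

lemma iota_id (z : A ⊗[R] M) : iota (AlgHom.id R A) z = z := by
  induction z using TensorProduct.induction_on with
  | zero => simp
  | tmul a m => simp
  | add x y hx hy => rw [map_add, hx, hy]

/-- Membership of a family of elements in a point of the Grassmannian is cut out by an ideal. -/
theorem exists_ideal (N : Grassmannian A (A ⊗[R] M) k) (s : Set (A ⊗[R] M)) :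
    ∃ I : Ideal A, ∀ (B : Type u) [CommRing B] [Algebra R B] (f : A →ₐ[R] B),
      (∀ z ∈ s, iota f z ∈ (Grassmannian.map f N).toSubmodule) ↔ I ≤ RingHom.ker f.toRingHom := by
  let Q := (A ⊗[R] M) ⧸ N.toSubmodule
  have : Module.Projective A Q := N.projective_quotient
  obtain ⟨σ, hσ⟩ := Module.projective_def'.mp this
  refine ⟨Ideal.span {a | ∃ z ∈ s, ∃ p : Q, a = σ (N.toSubmodule.mkQ z) p}, fun B _ _ f => ?_⟩
  obtain ⟨_, _, rfl⟩ := exists_tower f
  rw [Ideal.span_le]
  constructor
  · rintro h _ ⟨z, hz, p, rfl⟩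
    have h0 := (mem_map_iff N z).mp (h z hz)
    have := congrArg (TensorProduct.rid A B)
      (congrArg (LinearMap.lTensor B ((Finsupp.lapply p).comp σ)) h0)
    rw [LinearMap.lTensor_tmul, map_zero, map_zero, TensorProduct.rid_tmul,
      LinearMap.comp_apply, Finsupp.lapply_apply, Algebra.smul_def, mul_one] at this
    exact this
  · intro h z hz
    rw [mem_map_iff]
    conv_lhs => rw [show N.toSubmodule.mkQ z = Finsupp.linearCombination A id (σ (N.toSubmodule.mkQ z))
      from (LinearMap.congr_fun hσ _).symm]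
    rw [Finsupp.linearCombination_apply, Finsupp.sum, TensorProduct.tmul_sum]
    refine Finset.sum_eq_zero fun p _ => ?_
    rw [← TensorProduct.smul_tmul, Algebra.smul_def, mul_one]
    have h0 : algebraMap A B (σ (N.toSubmodule.mkQ z) p) = 0 := h ⟨z, hz, p, rfl⟩
    rw [h0, TensorProduct.zero_tmul]

/-! ### charts -/

/-- the map `A^k → (A ⊗ M) ⧸ N` given by a tuple of elements of `M` -/
def sel (x : Fin k → M) (N : Grassmannian A (A ⊗[R] M) k) :
    (Fin k → A) →ₗ[A] (A ⊗[R] M) ⧸ N.toSubmodule :=
  Fintype.linearCombination A fun i => N.toSubmodule.mkQ ((1 : A) ⊗ₜ[R] x i)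

lemma sel_apply (x : Fin k → M) (N : Grassmannian A (A ⊗[R] M) k) (c : Fin k → A) :
    sel x N c = N.toSubmodule.mkQ (∑ i, c i • ((1 : A) ⊗ₜ[R] x i)) := by
  simp [sel, Fintype.linearCombination_apply]

/-- `N` lies in the chart of `x` -/
def InChart (x : Fin k → M) (N : Grassmannian A (A ⊗[R] M) k) : Prop :=
  Function.Surjective (sel x N)

lemma InChart.bijective {x : Fin k → M} {N : Grassmannian A (A ⊗[R] M) k} (h : InChart x N) :
    Function.Bijective (sel x N) := by
  rcases subsingleton_or_nontrivial A with hA | hA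
  · have := Module.subsingleton A (Fin k → A)
    exact ⟨Function.injective_of_subsingleton _, h⟩
  · have : Module.Projective A ((A ⊗[R] M) ⧸ N.toSubmodule) := N.projective_quotient
    refine Module.bijective_of_surjective_of_rankAtStalk_eq h fun m _ => ?_
    rw [N.rankAtStalk_eq]
    simp

lemma InChart.injective {x : Fin k → M} {N : Grassmannian A (A ⊗[R] M) k} (h : InChart x N) :
    Function.Injective (sel x N) := h.bijective.1

/-- coordinates of a point in the chart of `x` -/
def coef {x : Fin k → M} {N : Grassmannian A (A ⊗[R] M) k} (h : InChart x N) : M →ₗ[R] Fin k → A :=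
  ((LinearEquiv.ofBijective (sel x N) h.bijective).symm.toLinearMap.restrictScalars R).comp
    ((N.toSubmodule.mkQ.restrictScalars R).comp (TensorProduct.mk R A M 1))

lemma sel_coef {x : Fin k → M} {N : Grassmannian A (A ⊗[R] M) k} (h : InChart x N) (m : M) :
    sel x N (coef h m) = N.toSubmodule.mkQ ((1 : A) ⊗ₜ[R] m) :=
  (LinearEquiv.ofBijective (sel x N) h.bijective).apply_symm_apply _

lemma coef_eq_iff {x : Fin k → M} {N : Grassmannian A (A ⊗[R] M) k} (h : InChart x N) (m : M)
    (c : Fin k → A) : coef h m = c ↔ sel x N c = N.toSubmodule.mkQ ((1 : A) ⊗ₜ[R] m) :=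
  ⟨fun hc => hc ▸ sel_coef h m, fun hc => h.injective ((sel_coef h m).trans hc.symm)⟩

lemma coef_self {x : Fin k → M} {N : Grassmannian A (A ⊗[R] M) k} (h : InChart x N) (i : Fin k) :
    coef h (x i) = Pi.single i 1 := by
  classical
  rw [coef_eq_iff, sel_apply]
  congr 1
  simp [Pi.single_apply, ite_smul]

lemma sel_lift_coef {x : Fin k → M} {N : Grassmannian A (A ⊗[R] M) k} (h : InChart x N)
    (z : A ⊗[R] M) : sel x N ((coef h).liftBaseChange A z) = N.toSubmodule.mkQ z := by
  induction one_tmul_span z using Submodule.span_induction with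
  | mem y hy => obtain ⟨m, rfl⟩ := hy; rw [LinearMap.liftBaseChange_tmul, one_smul, sel_coef]
  | zero => simp
  | add x y _ _ hx hy => simp only [map_add, hx, hy]
  | smul b x _ hx => simp only [map_smul, hx]

lemma toSubmodule_eq_ker {x : Fin k → M} {N : Grassmannian A (A ⊗[R] M) k} (h : InChart x N) :
    N.toSubmodule = LinearMap.ker ((coef h).liftBaseChange A) := by
  ext z
  rw [LinearMap.mem_ker, ← h.injective.eq_iff, sel_lift_coef, map_zero, Submodule.mkQ_apply,
    Submodule.Quotient.mk_eq_zero]

lemma eq_of_coef {x : Fin k → M} {N N' : Grassmannian A (A ⊗[R] M) k} (h : InChart x N)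
    (h' : InChart x N') (he : coef h = coef h') : N = N' := by
  refine Grassmannian.ext ?_
  rw [toSubmodule_eq_ker h, toSubmodule_eq_ker h', he]

variable (R A) in
/-- coordinate maps of the chart of `x` with values in `A` -/
abbrev ChartMap (x : Fin k → M) : Type u :=
  {φ : M →ₗ[R] Fin k → A // ∀ i, φ (x i) = Pi.single i 1}

lemma ChartMap.surjective {x : Fin k → M} (φ : ChartMap R A x) :
    Function.Surjective (φ.1.liftBaseChange A) := fun c => by
  classical
  refine ⟨∑ i, c i • ((1 : A) ⊗ₜ[R] x i), ?_⟩
  simp only [map_sum, map_smul, LinearMap.liftBaseChange_tmul, one_smul, φ.2]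
  funext j
  simp [Finset.sum_apply, Pi.single_apply]

/-- the point of the chart with given coordinates -/
def ofCoef {x : Fin k → M} (φ : ChartMap R A x) : Grassmannian A (A ⊗[R] M) k where
  toSubmodule := LinearMap.ker (φ.1.liftBaseChange A)
  finite_quotient :=
    Module.Finite.equiv (LinearMap.quotKerEquivOfSurjective _ φ.surjective).symm
  projective_quotient :=
    Module.Projective.of_equiv (LinearMap.quotKerEquivOfSurjective _ φ.surjective).symm
  rankAtStalk_eq p := by
    have := p.nontrivial
    rw [Module.rankAtStalk_eq_of_equiv (LinearMap.quotKerEquivOfSurjective _ φ.surjective)]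
    simp

lemma inChart_ofCoef {x : Fin k → M} (φ : ChartMap R A x) : InChart x (ofCoef φ) := by
  classical
  intro q
  obtain ⟨z, rfl⟩ := (ofCoef φ).toSubmodule.mkQ_surjective q
  refine ⟨φ.1.liftBaseChange A z, ?_⟩
  rw [sel_apply, Submodule.mkQ_apply, Submodule.mkQ_apply, Submodule.Quotient.eq]
  show _ ∈ LinearMap.ker (φ.1.liftBaseChange A)
  rw [LinearMap.mem_ker, map_sub, sub_eq_zero, map_sum]
  funext j
  simp [Finset.sum_apply, φ.2, Pi.single_apply]

lemma coef_ofCoef {x : Fin k → M} (φ : ChartMap R A x) : coef (inChart_ofCoef φ) = φ.1 := by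
  classical
  refine LinearMap.ext fun m => ?_
  rw [coef_eq_iff, sel_apply, Submodule.mkQ_apply, Submodule.mkQ_apply, Submodule.Quotient.eq]
  show _ ∈ LinearMap.ker (φ.1.liftBaseChange A)
  rw [LinearMap.mem_ker, map_sub, sub_eq_zero, map_sum]
  funext j
  simp [Finset.sum_apply, φ.2, Pi.single_apply]

lemma sel_map {x : Fin k → M} {N : Grassmannian A (A ⊗[R] M) k} (h : InChart x N) (f : A →ₐ[R] B)
    (m : M) : sel x (Grassmannian.map f N) (f ∘ coef h m) =
      (Grassmannian.map f N).toSubmodule.mkQ ((1 : B) ⊗ₜ[R] m) := by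
  have h0 := (sel_apply x N (coef h m)).symm.trans (sel_coef h m)
  rw [Submodule.mkQ_apply, Submodule.mkQ_apply, Submodule.Quotient.eq] at h0
  rw [sel_apply, Submodule.mkQ_apply, Submodule.mkQ_apply, Submodule.Quotient.eq]
  have := iota_mem_map f N h0
  simp only [map_sub, map_sum, iota_smul, iota_tmul, map_one] at this
  exact this

lemma InChart.map {x : Fin k → M} {N : Grassmannian A (A ⊗[R] M) k} (h : InChart x N)
    (f : A →ₐ[R] B) : InChart x (Grassmannian.map f N) := by
  intro q
  obtain ⟨z, rfl⟩ := (Grassmannian.map f N).toSubmodule.mkQ_surjective q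
  refine LinearMap.mem_range.mp ?_
  induction one_tmul_span z using Submodule.span_induction with
  | mem y hy => obtain ⟨m, rfl⟩ := hy; exact ⟨_, sel_map h f m⟩
  | zero => simp
  | add x y _ _ hx hy => rw [map_add]; exact add_mem hx hy
  | smul b x _ hx => rw [map_smul]; exact Submodule.smul_mem _ _ hx

lemma coef_map {x : Fin k → M} {N : Grassmannian A (A ⊗[R] M) k} (h : InChart x N)
    (f : A →ₐ[R] B) (m : M) : coef (h.map f) m = f ∘ coef h m :=
  (coef_eq_iff _ _ _).mpr (sel_map h f m)

/-- push coordinates along an algebra map -/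
def ChartMap.map {x : Fin k → M} (φ : ChartMap R A x) (f : A →ₐ[R] B) : ChartMap R B x :=
  ⟨(f.toLinearMap.compLeft (Fin k)).comp φ.1, fun i => by
    funext j
    simp [φ.2, Pi.single_apply, apply_ite f]⟩

@[simp] lemma ChartMap.map_apply {x : Fin k → M} (φ : ChartMap R A x) (f : A →ₐ[R] B) (m : M) :
    (φ.map f).1 m = f ∘ φ.1 m := rfl

lemma map_ofCoef {x : Fin k → M} (φ : ChartMap R A x) (f : A →ₐ[R] B) :
    Grassmannian.map f (ofCoef φ) = ofCoef (φ.map f) :=
  eq_of_coef ((inChart_ofCoef φ).map f) (inChart_ofCoef _) (LinearMap.ext fun m => by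
    rw [coef_map (inChart_ofCoef φ), coef_ofCoef, coef_ofCoef, ChartMap.map_apply])

/-- points in a chart are coordinate maps -/
def chartEquiv (x : Fin k → M) :
    {N : Grassmannian A (A ⊗[R] M) k // InChart x N} ≃ ChartMap R A x where
  toFun N := ⟨coef N.2, coef_self N.2⟩
  invFun φ := ⟨ofCoef φ, inChart_ofCoef φ⟩
  left_inv N := Subtype.ext (eq_of_coef (inChart_ofCoef _) N.2 (coef_ofCoef _))
  right_inv φ := Subtype.ext (coef_ofCoef φ)

/-- the determinant deciding whether the point with coordinates `φ` lies in the chart of `y` -/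
def dmat (φ : M →ₗ[R] Fin k → A) (y : Fin k → M) : A :=
  Matrix.det (Matrix.of fun i j => φ (y j) i)

lemma map_dmat (f : A →ₐ[R] B) (φ : M →ₗ[R] Fin k → A) (φ' : M →ₗ[R] Fin k → B)
    (h : ∀ m, φ' m = f ∘ φ m) (y : Fin k → M) : f (dmat φ y) = dmat φ' y := by
  rw [dmat, dmat, AlgHom.map_det]
  congr 1
  ext i j
  simp [h]

lemma dmat_self {x : Fin k → M} (φ : ChartMap R A x) : dmat φ.1 x = 1 := by
  rw [dmat, show (Matrix.of fun i j => φ.1 (x j) i) = 1 from ?_, Matrix.det_one]
  ext i j
  simp [φ.2, Pi.single_apply, Matrix.one_apply]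

lemma inChart_iff_isUnit {x : Fin k → M} {N : Grassmannian A (A ⊗[R] M) k} (h : InChart x N)
    (y : Fin k → M) : InChart y N ↔ IsUnit (dmat (coef h) y) := by
  rw [dmat, ← Matrix.isUnit_iff_isUnit_det, ← Matrix.mulVec_surjective_iff_isUnit]
  have key : ∀ c : Fin k → A,
      sel y N c = sel x N ((Matrix.of fun i j => coef h (y j) i).mulVec c) := by
    intro c
    rw [show (Matrix.of fun i j => coef h (y j) i).mulVec c = ∑ j, c j • coef h (y j) by
      funext i
      simp [Matrix.mulVec, dotProduct, Finset.sum_apply, mul_comm]]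
    simp only [map_sum, map_smul, sel_coef, sel_apply y]
  constructor
  · intro hy v
    obtain ⟨c, hc⟩ := hy (sel x N v)
    exact ⟨c, h.injective ((key c).symm.trans hc)⟩
  · intro hy q
    obtain ⟨v, rfl⟩ := h q
    obtain ⟨c, rfl⟩ := hy v
    exact ⟨c, key c⟩

/-! ### local existence of charts -/

lemma exists_inChart_field {K : Type u} [Field K] [Algebra R K] (N : Grassmannian K (K ⊗[R] M) k)
    {s : Set M} (hs : Submodule.span R s = ⊤) :
    ∃ x : Fin k → M, (∀ i, x i ∈ s) ∧ InChart x N := by
  classical
  let Q := (K ⊗[R] M) ⧸ N.toSubmodule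
  let g : M → Q := fun m => N.toSubmodule.mkQ ((1 : K) ⊗ₜ[R] m)
  have hspan : Submodule.span K (g '' s) = ⊤ := by
    rw [eq_top_iff]
    intro q hq
    clear hq
    obtain ⟨z, rfl⟩ := N.toSubmodule.mkQ_surjective q
    induction one_tmul_span z using Submodule.span_induction with
    | mem y hy =>
      obtain ⟨m, rfl⟩ := hy
      dsimp only
      have hm : m ∈ Submodule.span R s := hs ▸ Submodule.mem_top
      induction hm using Submodule.span_induction with
      | mem y hy => exact Submodule.subset_span ⟨y, hy, rfl⟩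
      | zero => simp
      | add x y _ _ hx hy => rw [TensorProduct.tmul_add, map_add]; exact add_mem hx hy
      | smul r x _ hx =>
        rw [TensorProduct.tmul_smul, ← algebraMap_smul K r ((1 : K) ⊗ₜ[R] x), map_smul]
        exact Submodule.smul_mem _ _ hx
    | zero => simp
    | add x y _ _ hx hy => rw [map_add]; exact add_mem hx hy
    | smul b x _ hx => rw [map_smul]; exact Submodule.smul_mem _ _ hx
  obtain ⟨b, hbs, hbspan, hbli⟩ := exists_linearIndependent K (g '' s)
  rw [hspan] at hbspan
  let Bb : Module.Basis b K Q := Module.Basis.mk hbli (by simp [hbspan])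
  have hdim : Module.finrank K Q = k := by
    have := N.rankAtStalk_eq ⟨⊥, Ideal.isPrime_bot⟩
    rwa [Module.rankAtStalk_eq_finrank_of_free] at this
  have : Fintype b := FiniteDimensional.fintypeBasisIndex Bb
  have hcard : Fintype.card b = k := by rw [← Module.finrank_eq_card_basis Bb, hdim]
  let e : Fin k ≃ b := (Fintype.equivFinOfCardEq hcard).symm
  choose m hm hgm using fun i : b => hbs i.2
  refine ⟨fun i => m (e i), fun i => hm _, ?_⟩
  have hb : Submodule.span K (Set.range fun i => g (m (e i))) = ⊤ := by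
    rw [show (fun i => g (m (e i))) = (fun i : b => (i : Q)) ∘ e from funext fun i => hgm (e i),
      e.surjective.range_comp, Subtype.range_coe]
    exact hbspan
  rw [InChart, ← LinearMap.range_eq_top, sel, Fintype.range_linearCombination, hb]

theorem exists_inChart_away (N : Grassmannian A (A ⊗[R] M) k) {s : Set M}
    (hs : Submodule.span R s = ⊤) (p : PrimeSpectrum A) :
    ∃ (x : Fin k → M) (a : A), (∀ i, x i ∈ s) ∧ a ∉ p.asIdeal ∧
      ∀ (B : Type u) [CommRing B] [Algebra R B] (f : A →ₐ[R] B), IsUnit (f a) →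
        InChart x (Grassmannian.map f N) := by
  classical
  let K := p.asIdeal.ResidueField
  let f₀ : A →ₐ[R] K := IsScalarTower.toAlgHom R A K
  obtain ⟨x, hxs, hx⟩ := exists_inChart_field (Grassmannian.map f₀ N) hs
  let C := ((A ⊗[R] M) ⧸ N.toSubmodule) ⧸ LinearMap.range (sel x N)
  let θ : K ⊗[R] M →ₗ[K] K ⊗[A] C :=
    ((LinearMap.range (sel x N)).mkQ.baseChange K).comp (Grassmannian.baseChangeMkQ K N.toSubmodule)
  have hθs : Function.Surjective θ :=
    (LinearMap.baseChange_surjective K (Submodule.mkQ_surjective _)).comp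
      (Grassmannian.baseChangeMkQ_surjective _)
  have hθι : ∀ z, θ (iota f₀ z) =
      (1 : K) ⊗ₜ[A] (LinearMap.range (sel x N)).mkQ (N.toSubmodule.mkQ z) := fun z => by
    simp only [θ, f₀, LinearMap.comp_apply, baseChangeMkQ_iota, LinearMap.baseChange_tmul]
  have hθx : ∀ i, θ ((1 : K) ⊗ₜ[R] x i) = 0 := fun i => by
    rw [show (1 : K) ⊗ₜ[R] x i = iota f₀ ((1 : A) ⊗ₜ[R] x i) by simp [f₀], hθι,
      show (LinearMap.range (sel x N)).mkQ (N.toSubmodule.mkQ ((1 : A) ⊗ₜ[R] x i)) = 0 from
        (Submodule.Quotient.mk_eq_zero _).mpr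
          ⟨Pi.single i 1, by rw [sel_apply]; simp [Pi.single_apply, ite_smul]⟩,
      TensorProduct.tmul_zero]
  have hker : (Grassmannian.map f₀ N).toSubmodule ≤ LinearMap.ker θ := by
    rw [map_eq_span, Submodule.span_le]
    rintro _ ⟨z, hz, rfl⟩
    rw [SetLike.mem_coe, LinearMap.mem_ker, hθι, Submodule.mkQ_apply (p := N.toSubmodule),
      (Submodule.Quotient.mk_eq_zero _).mpr hz, map_zero, TensorProduct.tmul_zero]
  have hθ0 : ∀ w, θ w = 0 := by
    intro w
    obtain ⟨c, hc⟩ := hx ((Grassmannian.map f₀ N).toSubmodule.mkQ w)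
    rw [sel_apply, Submodule.mkQ_apply, Submodule.mkQ_apply, Submodule.Quotient.eq] at hc
    have := LinearMap.mem_ker.mp (hker hc)
    simpa [map_sub, map_sum, hθx] using this
  have hsub : Subsingleton (K ⊗[A] C) := subsingleton_of_forall_eq 0 fun w => by
    obtain ⟨v, rfl⟩ := hθs w
    exact hθ0 v
  have hnot : p ∉ Module.support A C := by
    rw [Module.mem_support_iff_nontrivial_residueField_tensorProduct]
    exact not_nontrivial_iff_subsingleton.mpr hsub
  rw [Module.mem_support_iff_of_finite] at hnot
  obtain ⟨a, ha, hap⟩ := SetLike.not_le_iff_exists.mp hnot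
  refine ⟨x, a, hxs, hap, fun B _ _ f hu q => ?_⟩
  obtain ⟨w, rfl⟩ := (Grassmannian.map f N).toSubmodule.mkQ_surjective q
  refine LinearMap.mem_range.mp ?_
  induction one_tmul_span w using Submodule.span_induction with
  | mem y hy =>
    obtain ⟨m, rfl⟩ := hy
    have hm : a • N.toSubmodule.mkQ ((1 : A) ⊗ₜ[R] m) ∈ LinearMap.range (sel x N) := by
      have := Module.mem_annihilator.mp ha
        ((LinearMap.range (sel x N)).mkQ (N.toSubmodule.mkQ ((1 : A) ⊗ₜ[R] m)))
      rw [← map_smul, Submodule.mkQ_apply, Submodule.Quotient.mk_eq_zero] at this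
      exact this
    obtain ⟨c, hc⟩ := hm
    rw [sel_apply, ← map_smul, Submodule.mkQ_apply, Submodule.mkQ_apply, Submodule.Quotient.eq] at hc
    have hc' := iota_mem_map f N hc
    simp only [map_sub, map_sum, iota_smul, iota_tmul, map_one] at hc'
    obtain ⟨v, hv⟩ := hu.exists_left_inv
    refine ⟨v • (f ∘ c), ?_⟩
    rw [map_smul, sel_apply, ← map_smul, Submodule.mkQ_apply, Submodule.mkQ_apply, Submodule.Quotient.eq]
    have := Submodule.smul_mem _ v hc'
    rwa [smul_sub, smul_smul v (f a), hv, one_smul] at this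
  | zero => simp
  | add x y _ _ hx hy => rw [map_add]; exact add_mem hx hy
  | smul b x _ hx => rw [map_smul]; exact Submodule.smul_mem _ _ hx

/-- the elements near which some chart (with entries in `s`) contains `N` generate the unit ideal -/
theorem span_goodElements (N : Grassmannian A (A ⊗[R] M) k) {s : Set M}
    (hs : Submodule.span R s = ⊤) :
    Ideal.span {a : A | ∃ x : Fin k → M, (∀ i, x i ∈ s) ∧
      ∀ (B : Type u) [CommRing B] [Algebra R B] (f : A →ₐ[R] B), IsUnit (f a) →
        InChart x (Grassmannian.map f N)} = ⊤ := by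
  by_contra hne
  obtain ⟨m, hm, hle⟩ := Ideal.exists_le_maximal _ hne
  obtain ⟨x, a, hxs, ha, h⟩ := exists_inChart_away N hs ⟨m, hm.isPrime⟩
  exact ha (hle (Ideal.subset_span ⟨x, hxs, h⟩))

/-- two points equal on a cover of `Spec A` by localisations are equal -/
theorem eq_of_span {t : Set A} (ht : Ideal.span t = ⊤) (N N' : Grassmannian A (A ⊗[R] M) k)
    (h : ∀ a ∈ t, Grassmannian.map (IsScalarTower.toAlgHom R A (Localization.Away a)) N =
      Grassmannian.map (IsScalarTower.toAlgHom R A (Localization.Away a)) N') : N = N' := by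
  suffices key : ∀ N N' : Grassmannian A (A ⊗[R] M) k,
      (∀ a ∈ t, Grassmannian.map (IsScalarTower.toAlgHom R A (Localization.Away a)) N =
        Grassmannian.map (IsScalarTower.toAlgHom R A (Localization.Away a)) N') →
      N.toSubmodule ≤ N'.toSubmodule from
    Grassmannian.ext (le_antisymm (key N N' h) (key N' N fun a ha => (h a ha).symm))
  intro N N' h z hz
  rw [← Submodule.Quotient.mk_eq_zero, ← Submodule.mkQ_apply, ← Submodule.mem_bot A]
  refine Submodule.mem_of_span_eq_top_of_smul_pow_mem _ t ht _ fun a => ?_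
  have h1 := iota_mem_map (IsScalarTower.toAlgHom R A (Localization.Away a.1)) N hz
  rw [h a.1 a.2, mem_map_iff] at h1
  have : IsLocalizedModule (Submonoid.powers a.1)
      (TensorProduct.mk A (Localization.Away a.1) ((A ⊗[R] M) ⧸ N'.toSubmodule) 1) :=
    (isLocalizedModule_iff_isBaseChange (Submonoid.powers a.1) (Localization.Away a.1) _).mpr
      (TensorProduct.isBaseChange _ _ _)
  obtain ⟨⟨_, n, rfl⟩, hn⟩ := (IsLocalizedModule.eq_zero_iff (Submonoid.powers a.1)
    (TensorProduct.mk A (Localization.Away a.1) ((A ⊗[R] M) ⧸ N'.toSubmodule) 1)).mp h1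
  exact ⟨n, (Submodule.mem_bot A).mpr hn⟩

/-! ### gluing -/

lemma exists_pow_smul_eq_iota (a : A) (z : Localization.Away a ⊗[R] M) :
    ∃ (n : ℕ) (w : A ⊗[R] M),
      algebraMap A (Localization.Away a) (a ^ n) • z =
        iota (IsScalarTower.toAlgHom R A (Localization.Away a)) w := by
  induction z using TensorProduct.induction_on with
  | zero => exact ⟨0, 0, by simp⟩
  | tmul c m =>
    obtain ⟨n, b, hb⟩ := IsLocalization.Away.surj a c
    refine ⟨n, b ⊗ₜ[R] m, ?_⟩
    rw [iota_tmul, TensorProduct.smul_tmul', smul_eq_mul, IsScalarTower.coe_toAlgHom', ← hb, map_pow,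
      mul_comm]
  | add x y hx hy =>
    obtain ⟨n, w, hw⟩ := hx
    obtain ⟨n', w', hw'⟩ := hy
    refine ⟨n + n', a ^ n' • w + a ^ n • w', ?_⟩
    rw [smul_add, map_add, iota_smul, iota_smul, ← hw, ← hw', smul_smul, smul_smul,
      IsScalarTower.coe_toAlgHom', ← map_mul, ← map_mul, ← pow_add, ← pow_add, add_comm n' n]

/-- points on a cover of `Spec A` by localisations agreeing on overlaps glue -/
theorem exists_glue_points (t : Finset A) (ht : Ideal.span (t : Set A) = ⊤)
    (N : ∀ a : t, Grassmannian (Localization.Away a.1) (Localization.Away a.1 ⊗[R] M) k)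
    (hN : ∀ (a b : t) (B : Type u) [CommRing B] [Algebra R B]
      (g : Localization.Away a.1 →ₐ[R] B) (g' : Localization.Away b.1 →ₐ[R] B),
      g.comp (IsScalarTower.toAlgHom R A _) = g'.comp (IsScalarTower.toAlgHom R A _) →
        Grassmannian.map g (N a) = Grassmannian.map g' (N b)) :
    ∃ N₀ : Grassmannian A (A ⊗[R] M) k, ∀ a : t,
      Grassmannian.map (IsScalarTower.toAlgHom R A (Localization.Away a.1)) N₀ = N a := by
  classical
  let fa : ∀ a : t, A →ₐ[R] Localization.Away a.1 := fun a => IsScalarTower.toAlgHom R A _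
  let S : Submodule A (A ⊗[R] M) :=
    { carrier := {z | ∀ a, iota (fa a) z ∈ (N a).toSubmodule}
      add_mem' := fun hx hy a => by rw [map_add]; exact add_mem (hx a) (hy a)
      zero_mem' := fun a => by simp
      smul_mem' := fun c z hz a => by rw [iota_smul]; exact Submodule.smul_mem _ _ (hz a) }
  have hpow : ∀ (i : t) (w : A ⊗[R] M), iota (fa i) w ∈ (N i).toSubmodule →
      ∃ n, i.1 ^ n • w ∈ S := by
    intro i w hw
    have hj : ∀ j : t, ∃ n, i.1 ^ n • iota (fa j) w ∈ (N j).toSubmodule := by
      intro j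
      let r := algebraMap A (Localization.Away j.1) i.1
      let B := Localization.Away r
      let g' : Localization.Away j.1 →ₐ[R] B := IsScalarTower.toAlgHom R _ B
      have hu : IsUnit ((g'.comp (fa j)).toRingHom i.1) :=
        IsLocalization.Away.algebraMap_isUnit (S := B) r
      let g₀ : Localization.Away i.1 →+* B := IsLocalization.Away.lift i.1 hu
      have hg₀ : ∀ c, g₀ (algebraMap A _ c) = g' (fa j c) := fun c =>
        IsLocalization.Away.lift_eq i.1 hu c
      let g : Localization.Away i.1 →ₐ[R] B :=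
        { g₀ with
          commutes' := fun c => by
            show g₀ (algebraMap R _ c) = algebraMap R B c
            rw [IsScalarTower.algebraMap_apply R A (Localization.Away i.1), hg₀,
              show fa j (algebraMap R A c) = algebraMap R (Localization.Away j.1) c from
                (fa j).commutes c]
            exact g'.commutes c }
      have hcomp : g.comp (fa i) = g'.comp (fa j) := AlgHom.ext hg₀
      have h1 : iota g' (iota (fa j) w) ∈ (Grassmannian.map g' (N j)).toSubmodule := by
        rw [← iota_comp, ← hcomp, iota_comp, ← hN i j B g g' hcomp]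
        exact iota_mem_map g _ hw
      rw [mem_map_iff] at h1
      have : IsLocalizedModule (Submonoid.powers r) (TensorProduct.mk (Localization.Away j.1) B
          ((Localization.Away j.1 ⊗[R] M) ⧸ (N j).toSubmodule) 1) :=
        (isLocalizedModule_iff_isBaseChange (Submonoid.powers r) B _).mpr (TensorProduct.isBaseChange _ _ _)
      obtain ⟨⟨_, n, rfl⟩, hn⟩ := (IsLocalizedModule.eq_zero_iff (Submonoid.powers r)
        (TensorProduct.mk (Localization.Away j.1) B
          ((Localization.Away j.1 ⊗[R] M) ⧸ (N j).toSubmodule) 1)).mp h1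
      rw [Submonoid.smul_def, ← map_smul, Submodule.mkQ_apply, Submodule.Quotient.mk_eq_zero] at hn
      refine ⟨n, ?_⟩
      rw [← algebraMap_smul (Localization.Away j.1), map_pow]
      exact hn
    choose n hn using hj
    refine ⟨Finset.univ.sup n, fun j => ?_⟩
    obtain ⟨d, hd⟩ := Nat.exists_eq_add_of_le (Finset.le_sup (f := n) (Finset.mem_univ j))
    rw [show Finset.univ.sup n = n j + d from hd, iota_smul, map_pow, pow_add, mul_comm, mul_smul]
    refine Submodule.smul_mem _ _ ?_
    have := hn j
    rw [← algebraMap_smul (Localization.Away j.1), map_pow] at this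
    exact this
  have hspan : ∀ i : t, (N i).toSubmodule =
      Submodule.span (Localization.Away i.1) (iota (fa i) '' (S : Set (A ⊗[R] M))) := by
    intro i
    refine le_antisymm (fun z hz => ?_) (Submodule.span_le.mpr ?_)
    · obtain ⟨n, w, hw⟩ := exists_pow_smul_eq_iota i.1 z
      obtain ⟨m, hm⟩ := hpow i w (hw ▸ Submodule.smul_mem _ _ hz)
      obtain ⟨v, hv⟩ := (((IsLocalization.Away.algebraMap_isUnit (S := Localization.Away i.1) i.1).pow m).mul
        ((IsLocalization.Away.algebraMap_isUnit (S := Localization.Away i.1) i.1).pow n)).exists_left_inv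
      have : z = v • iota (fa i) (i.1 ^ m • w) := by
        rw [iota_smul, ← hw, smul_smul, smul_smul, IsScalarTower.coe_toAlgHom', map_pow, map_pow,
          mul_assoc, hv, one_smul]
      rw [this]
      exact Submodule.smul_mem _ _ (Submodule.subset_span ⟨_, hm, rfl⟩)
    · rintro _ ⟨w, hw, rfl⟩
      exact hw i
  let Q := (A ⊗[R] M) ⧸ S
  let Ψ : ∀ i : t, Q →ₗ[A] (Localization.Away i.1 ⊗[R] M) ⧸ (N i).toSubmodule := fun i =>
    S.liftQ
      { toFun := fun z => (N i).toSubmodule.mkQ (iota (fa i) z)
        map_add' := fun x y => by simp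
        map_smul' := fun c z => by
          simp only [iota_smul, map_smul, RingHom.id_apply]
          exact algebraMap_smul (Localization.Away i.1) c ((N i).toSubmodule.mkQ (iota (fa i) z)) }
      fun z hz => (Submodule.Quotient.mk_eq_zero _).mpr (hz i)
  have hΨ : ∀ i : t, IsLocalizedModule (Submonoid.powers i.1) (Ψ i) := by
    intro i
    constructor
    · rintro ⟨_, n, rfl⟩
      rw [Module.End.isUnit_iff]
      obtain ⟨v, hv⟩ := ((IsLocalization.Away.algebraMap_isUnit (S := Localization.Away i.1) i.1).pow n).exists_left_inv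
      constructor
      · intro x y hxy
        simp only [Module.algebraMap_end_apply] at hxy
        rw [← algebraMap_smul (Localization.Away i.1), ← algebraMap_smul (Localization.Away i.1)
          _ y, map_pow] at hxy
        have := congrArg (v • ·) hxy
        rwa [smul_smul, smul_smul, hv, one_smul, one_smul] at this
      · intro y
        refine ⟨v • y, ?_⟩
        rw [Module.algebraMap_end_apply, ← algebraMap_smul (Localization.Away i.1), map_pow,
          smul_smul, mul_comm, hv, one_smul]
    · intro y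
      obtain ⟨z, rfl⟩ := (N i).toSubmodule.mkQ_surjective y
      obtain ⟨n, w, hw⟩ := exists_pow_smul_eq_iota i.1 z
      refine ⟨⟨S.mkQ w, ⟨_, n, rfl⟩⟩, ?_⟩
      rw [Submonoid.smul_def, ← algebraMap_smul (Localization.Away i.1), ← map_smul, hw]
      rfl
    · intro q₁ q₂ h12
      obtain ⟨z₁, rfl⟩ := S.mkQ_surjective q₁
      obtain ⟨z₂, rfl⟩ := S.mkQ_surjective q₂
      replace h12 : (N i).toSubmodule.mkQ (iota (fa i) z₁) = (N i).toSubmodule.mkQ (iota (fa i) z₂) := h12
      rw [Submodule.mkQ_apply, Submodule.mkQ_apply, Submodule.Quotient.eq, ← map_sub] at h12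
      obtain ⟨n, hn⟩ := hpow i _ h12
      refine ⟨⟨_, n, rfl⟩, ?_⟩
      simp only [Submonoid.smul_def, Submodule.mkQ_apply]
      rw [← Submodule.Quotient.mk_smul, ← Submodule.Quotient.mk_smul, Submodule.Quotient.eq]
      exact smul_sub (i.1 ^ n) z₁ z₂ ▸ hn
  have hproj : ∀ i : t, Module.Projective (Localization.Away i.1)
      ((Localization.Away i.1 ⊗[R] M) ⧸ (N i).toSubmodule) := fun i => (N i).projective_quotient
  have hfp : Module.FinitePresentation A Q :=
    Module.FinitePresentation.of_localizationSpan' (t : Set A) ht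
      (Rₚ := fun i : (t : Set A) => Localization.Away i.1) (fun i => Ψ i)
      fun i => Module.finitePresentation_of_projective _ _
  have hflat : Module.Flat A Q :=
    Module.flat_of_isLocalized_span (R := A) (S := A) (M := Q) (s := (t : Set A)) (spn := ht)
      (Mₛ := fun i : (t : Set A) => (Localization.Away i.1 ⊗[R] M) ⧸ (N i).toSubmodule)
      (g := fun i => Ψ i) (H := fun i => Module.Flat.trans A (Localization.Away i.1) _)
  have hQ : Module.Projective A Q := Module.Flat.projective_of_finitePresentation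
  refine ⟨⟨S, inferInstanceAs (Module.Finite A Q), hQ, fun p => ?_⟩, fun i => ?_⟩
  · obtain ⟨i, hip⟩ : ∃ i : t, i.1 ∉ p.asIdeal := by
      by_contra hall
      push Not at hall
      exact p.isPrime.ne_top (top_unique (ht ▸ Ideal.span_le.mpr fun a ha => hall ⟨a, ha⟩))
    obtain ⟨p', hp'⟩ : p ∈ Set.range (PrimeSpectrum.comap (algebraMap A (Localization.Away i.1))) := by
      rw [PrimeSpectrum.localization_away_comap_range (Localization.Away i.1) i.1]
      exact hip
    rw [← hp', ← Module.rankAtStalk_isBaseChange (IsLocalizedModule.isBaseChange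
      (Submonoid.powers i.1) (Localization.Away i.1) (Ψ i))]
    exact (N i).rankAtStalk_eq p'
  · refine Grassmannian.ext ?_
    rw [map_eq_span, hspan i]

end Groth.GrassRep
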