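import Groth.Agent.GrassRep.Abstract

/-!
# The Grassmannian of a free module: affine space charts, smoothness
-/

set_option autoImplicit false

universe u

open CategoryTheory CategoryTheory.Limits AlgebraicGeometry TensorProduct Module

noncomputable section

namespace Groth.GrassRep

variable {R : Type u} [CommRing R]

lemma standardSmooth_mvPolynomial (σ : Type u) [Finite σ] :
    Algebra.IsStandardSmoothOfRelativeDimension (Nat.card σ) R (MvPolynomial σ R) := by
  classical
  let v : Empty → MvPolynomial σ R := Empty.elim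
  let P : Algebra.SubmersivePresentation R (MvPolynomial σ R ⧸ Ideal.span (Set.range v)) σ Empty :=
    { Algebra.PreSubmersivePresentation.naive (v := v) Empty.elim (fun a => a.elim) with
      jacobian_isUnit := by
        simp [Algebra.PreSubmersivePresentation.jacobian_eq_jacobiMatrix_det] }
  let e : (MvPolynomial σ R ⧸ Ideal.span (Set.range v)) ≃ₐ[R] MvPolynomial σ R :=
    (Ideal.quotientEquivAlgOfEq R (by simp)).trans (AlgEquiv.quotientBot R (MvPolynomial σ R))
  have : Algebra.IsStandardSmoothOfRelativeDimension (Nat.card σ) R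
      (MvPolynomial σ R ⧸ Ideal.span (Set.range v)) :=
    P.isStandardSmoothOfRelativeDimension (by simp [Algebra.Presentation.dimension])
  exact Algebra.IsStandardSmoothOfRelativeDimension.of_algEquiv (n := _) e

variable {n k : ℕ}

variable (R) in
/-- standard basis vectors selected by `τ` -/
def xs (τ : Fin k → Fin n) : Fin k → (Fin n → R) := fun i => Pi.single (τ i) 1

/-- the coordinates of a standard chart not forced by the choice of `τ` -/
abbrev FreeIdx (τ : Fin k → Fin n) : Type := Fin k × {l : Fin n // l ∉ Set.range τ}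

lemma card_freeIdx {τ : Fin k → Fin n} (hτ : Function.Injective τ) :
    Nat.card (FreeIdx τ) = k * (n - k) := by
  classical
  rw [Nat.card_prod, Nat.card_eq_fintype_card, Nat.card_eq_fintype_card, Fintype.card_fin,
    Fintype.card_subtype_compl]
  have h : Fintype.card {l : Fin n // l ∈ Set.range τ} = k := by
    rw [← Fintype.card_congr (Equiv.ofInjective τ hτ), Fintype.card_fin]
  rw [Fintype.card_fin, h]

variable (R) in
/-- the value at the `l`-th basis vector of the generic chart map -/
def genRow (τ : Fin k → Fin n) (l : Fin n) (i : Fin k) : MvPolynomial (ULift.{u} (FreeIdx τ)) R :=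
  open scoped Classical in
  if h : l ∈ Set.range τ then (if l = τ i then 1 else 0) else MvPolynomial.X ⟨(i, ⟨l, h⟩)⟩

variable (R) in
/-- the generic chart map of a free module -/
def genMap {τ : Fin k → Fin n} (hτ : Function.Injective τ) :
    ChartMap R (MvPolynomial (ULift.{u} (FreeIdx τ)) R) (xs R τ) :=
  ⟨(Pi.basisFun R (Fin n)).constr R (genRow R τ), fun j => by
    rw [xs, ← Pi.basisFun_apply, Module.Basis.constr_basis]
    funext i
    rw [genRow, dif_pos ⟨j, rfl⟩, Pi.single_apply]
    exact if_congr ⟨fun h => (hτ h).symm, fun h => by rw [h]⟩ rfl rfl⟩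

lemma genMap_basis {τ : Fin k → Fin n} (hτ : Function.Injective τ) (l : Fin n) :
    (genMap R hτ).1 (Pi.single l 1) = genRow R τ l := by
  rw [genMap, ← Pi.basisFun_apply, Module.Basis.constr_basis]

variable (R) in
/-- the chart ring of a free module is a polynomial ring -/
def chartAlgEquiv {τ : Fin k → Fin n} (hτ : Function.Injective τ) :
    P R (xs R τ) ≃ₐ[R] MvPolynomial (ULift.{u} (FreeIdx τ)) R :=
  AlgEquiv.ofAlgHom (chartHom (genMap R hτ))
    (MvPolynomial.aeval fun q : ULift.{u} (FreeIdx τ) =>
      (univMap R (xs R τ)).1 (Pi.single q.down.2.1 1) q.down.1)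
    (MvPolynomial.algHom_ext fun q => by
      obtain ⟨i, l, hl⟩ := q
      rw [AlgHom.comp_apply, MvPolynomial.aeval_X, AlgHom.id_apply]
      have h := congrFun (LinearMap.congr_fun (congrArg Subtype.val (chartHom_univ (genMap R hτ)))
        (Pi.single l 1)) i
      rw [ChartMap.map_apply, Function.comp_apply, genMap_basis, genRow, dif_neg hl] at h
      exact h)
    (chart_ext _ _ (by
      rw [uU, map_ofCoef, map_ofCoef]
      congr 1
      refine Subtype.ext ((Pi.basisFun R (Fin n)).ext fun l => ?_)
      rw [Pi.basisFun_apply, ChartMap.map_apply, ChartMap.map_apply, AlgHom.coe_id, Function.id_comp]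
      funext i
      rw [Function.comp_apply, AlgHom.comp_apply]
      have h := congrFun (LinearMap.congr_fun (congrArg Subtype.val (chartHom_univ (genMap R hτ)))
        (Pi.single l 1)) i
      rw [ChartMap.map_apply, Function.comp_apply, genMap_basis] at h
      rw [h, genRow]
      by_cases hl : l ∈ Set.range τ
      · obtain ⟨j, rfl⟩ := hl
        have hx := congrFun ((univMap R (xs R τ)).2 j) i
        rw [dif_pos ⟨j, rfl⟩]
        rw [xs, Pi.single_apply] at hx
        rw [hx]
        by_cases hij : i = j
        · subst hij; simp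
        · rw [if_neg (fun h => hij (hτ h).symm), if_neg hij, map_zero]
      · rw [dif_neg hl, MvPolynomial.aeval_X]))

variable {M : Type u} [AddCommGroup M] [Module R M]
variable {X : Over (Spec (CommRingCat.of R))}
  {e : ∀ A : CommAlgCat.{u} R, (Pt A ⟶ X) ≃ (Grassmannian.functor (R := R) (M := M) k).obj A}

lemma eq_chart {A : CommAlgCat.{u} R} {x : Fin k → M} (g : Pt A ⟶ grass R M k)
    (h : InChart x (pts R M k A g)) :
    g = ptMap (CommAlgCat.ofHom (toChart h)) ≫ jj R M k x := by
  apply (pts R M k A).injective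
  rw [pts_natural, pts_jj]
  exact (map_toChart h).symm

/-- every point of the Grassmannian lies in a chart with entries in a generating set -/
theorem exists_chart_mem {s : Set M} (hs : Submodule.span R s = ⊤) (t : (grass R M k).left) :
    ∃ (x : Fin k → M), (∀ i, x i ∈ s) ∧ t ∈ Set.range (jj R M k x).left ∧
      ∃ (K : CommAlgCat.{u} R) (N : Grassmannian K (K ⊗[R] M) k), Nontrivial K ∧ InChart x N := by
  obtain ⟨ι, A, f, hf, hcov⟩ := exists_cover (grass R M k)
  obtain ⟨i, p, rfl⟩ := hcov t
  obtain ⟨x, a, hxs, ha, hx⟩ := exists_inChart_away (pts R M k (A i) (f i)) hs p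
  have hu := IsLocalization.Away.algebraMap_isUnit (S := Localization.Away a) a
  have hc : InChart x (pts R M k _ (awayMap' a ≫ f i)) := by
    rw [pts_natural]
    exact hx _ _ hu
  have hg := eq_chart (awayMap' a ≫ f i) hc
  obtain ⟨q, hq⟩ : p ∈ Set.range (PrimeSpectrum.comap (algebraMap (A i) (Localization.Away a))) := by
    rw [PrimeSpectrum.localization_away_comap_range (Localization.Away a) a]
    exact ha
  refine ⟨x, hxs, ⟨(ptMap (CommAlgCat.ofHom (toChart hc))).left q, ?_⟩, _, _, q.nontrivial, hc⟩
  rw [← Scheme.Hom.comp_apply, ← Over.comp_left, ← hg, Over.comp_left, Scheme.Hom.comp_apply]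
  exact congrArg (f i).left hq

lemma injective_of_inChart {τ : Fin k → Fin n} {K : Type u} [CommRing K] [Algebra R K] [Nontrivial K]
    {N : Grassmannian K (K ⊗[R] (Fin n → R)) k} (h : InChart (xs R τ) N) : Function.Injective τ := by
  intro i j hij
  have := coef_self h i
  rw [show xs R τ i = xs R τ j by rw [xs, xs, hij], coef_self h j] at this
  by_contra hne
  simpa [Pi.single_apply, hne] using congrFun this i

/-- the affine charts of the Grassmannian of a free module -/
theorem exists_affine_charts {X : Over (Spec (CommRingCat.of R))}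
    {e : ∀ A : CommAlgCat.{u} R, (Pt A ⟶ X) ≃ (Grassmannian.functor (R := R) (M := Fin n → R) k).obj A}
    (he : Natural X e) :
    ∃ (f : ∀ τ : {τ : Fin k → Fin n // Function.Injective τ},
        Pt (CommAlgCat.of R (MvPolynomial (ULift.{u} (FreeIdx τ.1)) R)) ⟶ X),
      (∀ τ, IsOpenImmersion (f τ).left) ∧ ∀ t : X.left, ∃ τ, t ∈ Set.range (f τ).left := by
  obtain ⟨c, -⟩ := he.exists_iso
  let al : ∀ τ : {τ : Fin k → Fin n // Function.Injective τ},
      Pc R (xs R τ.1) ⟶ CommAlgCat.of R (MvPolynomial (ULift.{u} (FreeIdx τ.1)) R) :=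
    fun τ => CommAlgCat.ofHom (chartAlgEquiv R τ.2).toAlgHom
  have hal : ∀ τ, IsIso (ptMap (al τ)).left := fun τ => by
    have : IsIso (CommRingCat.ofHom (chartAlgEquiv R τ.2).toAlgHom.toRingHom) :=
      (ConcreteCategory.isIso_iff_bijective _).mpr (chartAlgEquiv R τ.2).bijective
    exact inferInstanceAs (IsIso (Spec.map _))
  refine ⟨fun τ => ptMap (al τ) ≫ jj R (Fin n → R) k (xs R τ.1) ≫ c.hom, fun τ => ?_, fun t => ?_⟩
  · have := hal τ
    show IsOpenImmersion ((ptMap (al τ)).left ≫ (jj R (Fin n → R) k (xs R τ.1)).left ≫ c.hom.left)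
    infer_instance
  · obtain ⟨x, hxs, ⟨p, hp⟩, K, N, hK, hN⟩ := exists_chart_mem
      (s := Set.range fun l : Fin n => (Pi.single l 1 : Fin n → R))
      (by simpa [← Pi.basisFun_apply] using (Pi.basisFun R (Fin n)).span_eq) (c.inv.left t)
    choose τ hτ using hxs
    obtain rfl : x = xs R τ := funext fun i => (hτ i).symm
    have hinj := injective_of_inChart hN
    have := hal ⟨τ, hinj⟩
    obtain ⟨p', rfl⟩ := (ptMap (al ⟨τ, hinj⟩)).left.homeomorph.surjective p
    refine ⟨⟨τ, hinj⟩, p', ?_⟩
    show c.hom.left ((jj R (Fin n → R) k (xs R τ)).left ((ptMap (al ⟨τ, hinj⟩)).left p')) = t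
    refine (congrArg c.hom.left hp).trans ?_
    rw [← Scheme.Hom.comp_apply, ← Over.comp_left, Iso.inv_hom_id]
    rfl

/-- smoothness and the affine space cover of the Grassmannian of a free module -/
theorem smooth_and_cover {X : Over (Spec (CommRingCat.of R))}
    {e : ∀ A : CommAlgCat.{u} R, (Pt A ⟶ X) ≃ (Grassmannian.functor (R := R) (M := Fin n → R) k).obj A}
    (he : Natural X e) :
    SmoothOfRelativeDimension (k * (n - k)) X.hom ∧
      ∃ (ι : Type) (_ : Finite ι) (U : ι → X.left.Opens), ⨆ i, U i = ⊤ ∧
        ∀ i, Nonempty (Over.mk ((U i).ι ≫ X.hom) ≅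
          Over.mk (𝔸(ULift.{u} (Fin (k * (n - k))); Spec (CommRingCat.of R)) ↘ Spec (CommRingCat.of R))) := by
  obtain ⟨f, hf, hcov⟩ := exists_affine_charts he
  refine ⟨?_, _, inferInstance, fun τ => (f τ).left.opensRange, ?_, fun τ => ?_⟩
  · let 𝒰 : X.left.OpenCover :=
      { I₀ := {τ : Fin k → Fin n // Function.Injective τ}
        X := fun τ => (Pt (CommAlgCat.of R (MvPolynomial (ULift.{u} (FreeIdx τ.1)) R))).left
        f := fun τ => (f τ).left
        mem₀ := by
          rw [Scheme.presieve₀_mem_precoverage_iff]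
          exact ⟨hcov, hf⟩ }
    refine IsZariskiLocalAtSource.of_openCover (P := @SmoothOfRelativeDimension (k * (n - k))) 𝒰 fun τ => ?_
    show SmoothOfRelativeDimension (k * (n - k)) ((f τ).left ≫ X.hom)
    rw [Over.w (f τ)]
    show SmoothOfRelativeDimension (k * (n - k)) (Spec.map _)
    rw [HasRingHomProperty.Spec_iff (P := @SmoothOfRelativeDimension (k * (n - k)))]
    refine RingHom.locally_of RingHom.isStandardSmoothOfRelativeDimension_respectsIso _ ?_
    show RingHom.IsStandardSmoothOfRelativeDimension (k * (n - k)) (algebraMap R _)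
    rw [RingHom.isStandardSmoothOfRelativeDimension_algebraMap, ← card_freeIdx τ.2,
      ← Nat.card_congr (Equiv.ulift.{u} (α := FreeIdx τ.1))]
    exact standardSmooth_mvPolynomial _
  · exact eq_top_iff.mpr fun t _ => TopologicalSpace.Opens.mem_iSup.mpr (hcov t)
  · classical
    have := hf τ
    let eσ : ULift.{u} (FreeIdx τ.1) ≃ ULift.{u} (Fin (k * (n - k))) :=
      Equiv.ulift.trans ((Finite.equivFinOfCardEq (card_freeIdx τ.2)).trans Equiv.ulift.symm)
    let er := (MvPolynomial.renameEquiv R eσ).symm
    have : IsIso (CommRingCat.ofHom er.toAlgHom.toRingHom) :=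
      (ConcreteCategory.isIso_iff_bijective _).mpr er.bijective
    refine ⟨Over.isoMk ((f τ).left.isoOpensRange.symm ≪≫
      (asIso (Spec.map (CommRingCat.ofHom er.toAlgHom.toRingHom))) ≪≫
      (AffineSpace.SpecIso _ (CommRingCat.of R)).symm) ?_⟩
    simp only [Over.mk_left, Over.mk_hom, Iso.trans_hom, Iso.symm_hom, asIso_hom, Category.assoc]
    rw [AffineSpace.SpecIso_inv_over, ← Spec.map_comp, ← CommRingCat.ofHom_comp,
      ← cancel_epi (f τ).left.isoOpensRange.hom, Iso.hom_inv_id_assoc,
      Scheme.Hom.isoOpensRange_hom_ι_assoc, Over.w (f τ)]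
    show Spec.map _ = Spec.map _
    congr 2
    exact er.toAlgHom.comp_algebraMap

end Groth.GrassRep
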