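import Groth.Agent.GrassRep.Stable
import Groth.Agent.GrassRep.Plucker
import Groth.Agent.Variety2.ProjBasics
import Groth.Prelude.Def_W4c1limliniiiiLG

/-!
# Properness of the Grassmannian, finite products, and the linked Grassmannian
-/

set_option autoImplicit false

universe u

open CategoryTheory CategoryTheory.Limits AlgebraicGeometry TensorProduct Module

noncomputable section

namespace Groth.GrassRep

variable {R : Type u} [CommRing R] {k : ℕ}

/-- the Grassmannian of a free module is proper -/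
theorem isProper_free {d : ℕ} (hk : k ≤ d) {X : Over (Spec (CommRingCat.of R))}
    {e : ∀ A : CommAlgCat.{u} R, (Pt A ⟶ X) ≃ (Grassmannian.functor (R := R) (M := Fin d → R) k).obj A}
    (he : Natural X e) : IsProper X.hom := by
  obtain ⟨c, hc, hcX⟩ := exists_plucker hk he
  have := hc
  have : IsProper (CohB1.ProjSpaceOver.toBase (d.choose k - 1) (Spec (CommRingCat.of R))) :=
    Groth.Variety2.isProper_projSpaceOver_toBase _ _
  rw [← hcX]
  infer_instance

variable {M : Type u} [AddCommGroup M] [Module R M]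

/-- binary products on points -/
def ptsProd (X Y : Over (Spec (CommRingCat.of R))) (A : CommAlgCat.{u} R) :
    (Pt A ⟶ Over.mk (pullback.fst X.hom Y.hom ≫ X.hom)) ≃ (Pt A ⟶ X) × (Pt A ⟶ Y) where
  toFun g := (g ≫ Over.homMk (pullback.fst X.hom Y.hom) rfl,
    g ≫ Over.homMk (pullback.snd X.hom Y.hom) pullback.condition.symm)
  invFun p := Over.homMk (pullback.lift p.1.left p.2.left ((Over.w p.1).trans (Over.w p.2).symm)) (by
    show pullback.lift _ _ _ ≫ pullback.fst _ _ ≫ X.hom = _
    rw [pullback.lift_fst_assoc]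
    exact Over.w p.1)
  left_inv g := Over.OverMorphism.ext (pullback.hom_ext (pullback.lift_fst _ _ _) (pullback.lift_snd _ _ _))
  right_inv p := Prod.ext (Over.OverMorphism.ext (pullback.lift_fst _ _ _)) (Over.OverMorphism.ext (pullback.lift_snd _ _ _))

/-- finite products of proper Grassmannians -/
theorem exists_pow (hprop : IsProper (grass R M k).hom) (m : ℕ) :
    ∃ (X : Over (Spec (CommRingCat.of R)))
      (e : ∀ A : CommAlgCat.{u} R, (Pt A ⟶ X) ≃ (Fin m → Grassmannian A (A ⊗[R] M) k)),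
      (∀ (A B : CommAlgCat.{u} R) (φ : A ⟶ B) (g : Pt A ⟶ X) (i : Fin m),
        e B (ptMap φ ≫ g) i = Grassmannian.map φ.hom (e A g i)) ∧ IsProper X.hom := by
  induction m with
  | zero =>
    refine ⟨Over.mk (𝟙 _), fun A =>
      { toFun := fun _ i => i.elim0
        invFun := fun _ => Over.homMk (Pt A).hom (Category.comp_id _)
        left_inv := fun g => Over.OverMorphism.ext (by
          show (Pt A).hom = g.left
          exact ((Category.comp_id g.left).symm.trans (Over.w g)).symm)
        right_inv := fun f => funext fun i => i.elim0 }, fun _ _ _ _ i => i.elim0, ?_⟩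
    show IsProper (𝟙 _)
    infer_instance
  | succ m ih =>
    obtain ⟨Y, eY, hY, hYp⟩ := ih
    refine ⟨Over.mk (pullback.fst (grass R M k).hom Y.hom ≫ (grass R M k).hom), fun A =>
      (ptsProd _ Y A).trans ((Equiv.prodCongr (pts R M k A) (eY A)).trans (Fin.consEquiv (fun _ => _))),
      fun A B φ g i => ?_, ?_⟩
    · simp only [Equiv.trans_apply, ptsProd, Equiv.coe_fn_mk, Equiv.prodCongr_apply, Prod.map_apply,
        Fin.consEquiv_apply]
      refine Fin.cases ?_ (fun j => ?_) i
      · simp only [Fin.cons_zero, Category.assoc]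
        exact pts_natural A B φ _
      · simp only [Fin.cons_succ, Category.assoc]
        exact hY A B φ _ j
    · have := hprop
      have := hYp
      show IsProper (pullback.fst (grass R M k).hom Y.hom ≫ (grass R M k).hom)
      infer_instance

lemma exists_ideal_mapsTo {M₁ : Type u} [AddCommGroup M₁] [Module R M₁] (v : M₁ →ₗ[R] M)
    {k₁ : ℕ} (A : CommAlgCat.{u} R) (N₁ : Grassmannian A (A ⊗[R] M₁) k₁) (N : Grassmannian A (A ⊗[R] M) k) :
    ∃ I : Ideal A, ∀ (B : CommAlgCat.{u} R) (φ : A ⟶ B),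
      (Submodule.map (v.baseChange B) (Grassmannian.map φ.hom N₁).toSubmodule ≤
        (Grassmannian.map φ.hom N).toSubmodule) ↔ I ≤ RingHom.ker φ.hom.toRingHom := by
  obtain ⟨I, hI⟩ := exists_ideal N (v.baseChange A '' (N₁.toSubmodule : Set (A ⊗[R] M₁)))
  refine ⟨I, fun B φ => Iff.trans ?_ (hI B φ.hom)⟩
  rw [map_eq_span φ.hom N₁, Submodule.map_span, Submodule.span_le, Set.image_subset_iff]
  constructor
  · rintro h _ ⟨z, hz, rfl⟩
    rw [iota_baseChange]
    exact h ⟨z, hz, rfl⟩
  · rintro h _ ⟨z, hz, rfl⟩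
    show v.baseChange B (iota φ.hom z) ∈ (Grassmannian.map φ.hom N).toSubmodule
    rw [← iota_baseChange]
    exact h _ ⟨z, hz, rfl⟩

/-- the linked Grassmannian -/
theorem exists_linked (d r n : ℕ) (f g : Fin n → ((Fin d → R) →ₗ[R] (Fin d → R))) :
    ∃ (X : Over (Spec (CommRingCat.of R)))
      (e : ∀ A : CommAlgCat.{u} R, (Pt A ⟶ X) ≃ W4c1limliniiii.LGPoints R d r n f g A),
      (∀ (A B : CommAlgCat.{u} R) (φ : A ⟶ B) (x : Pt A ⟶ X) (x' : Pt B ⟶ X),
        x'.left = Spec.map (CommRingCat.ofHom φ.hom.toRingHom) ≫ x.left →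
          ∀ i, (e B x').1 i = Grassmannian.map φ.hom ((e A x).1 i)) ∧
      IsProper X.hom := by
  have hprop : IsProper (grass R (Fin d → R) (d - r)).hom :=
    isProper_free (e := fun A => pts R (Fin d → R) (d - r) A) (Nat.sub_le d r) fun A B φ x x' h => by
      obtain rfl := (left_eq_iff φ x x').mp h
      rw [Grassmannian.functor_map]
      exact pts_natural A B φ x
  obtain ⟨P, eP, hP, hPp⟩ := exists_pow hprop (n + 1)
  obtain ⟨Z, c, hc, hZ⟩ := exists_closed_of_ideals P
    (fun A x => eP A x ∈ W4c1limliniiii.LGPoints R d r n f g A) fun A x => by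
      choose If hIf using fun i : Fin n => exists_ideal_mapsTo (f i) A (eP A x i.castSucc) (eP A x i.succ)
      choose Ig hIg using fun i : Fin n => exists_ideal_mapsTo (g i) A (eP A x i.succ) (eP A x i.castSucc)
      refine ⟨⨆ i, If i ⊔ Ig i, fun B φ => ?_⟩
      rw [iSup_le_iff]
      refine forall_congr' fun i => ?_
      rw [sup_le_iff, ← hIf i B φ, ← hIg i B φ, hP, hP]
  have := hc
  have hinj : ∀ (A : CommAlgCat.{u} R) (z z' : Pt A ⟶ Z), z ≫ c = z' ≫ c → z = z' := fun A z z' h =>
    Over.OverMorphism.ext ((cancel_mono c.left).mp (congrArg CommaMorphism.left h))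
  let e : ∀ A : CommAlgCat.{u} R, (Pt A ⟶ Z) ≃ W4c1limliniiii.LGPoints R d r n f g A := fun A =>
    Equiv.ofBijective (fun z => ⟨eP A (z ≫ c), (hZ A _).mp ⟨z, rfl⟩⟩)
      ⟨fun z z' h => hinj A z z' ((eP A).injective (congrArg Subtype.val h)), fun V => by
        obtain ⟨x, hx⟩ := (eP A).surjective V.1
        obtain ⟨z, hz⟩ := (hZ A x).mpr (hx ▸ V.2)
        exact ⟨z, Subtype.ext ((congrArg (eP A) hz).trans hx)⟩⟩
  refine ⟨Z, e, fun A B φ x x' h i => ?_, ?_⟩
  · obtain rfl := (left_eq_iff φ x x').mp h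
    show eP B ((ptMap φ ≫ x) ≫ c) i = Grassmannian.map φ.hom (eP A (x ≫ c) i)
    rw [Category.assoc, hP]
  · have := hPp
    rw [← Over.w c]
    infer_instance

end Groth.GrassRep
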