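import Groth.Agent.GrassRep.Construct
import Groth.Agent.Agf.ClosedCondition

/-!
# Schemes representing the Grassmannian functor, and closed conditions on them

Any scheme with bijections on points compatible with base change is isomorphic to the glued
Grassmannian; a condition on points cut out on every point by an ideal is a closed subscheme.
-/

set_option autoImplicit false

universe u

open CategoryTheory CategoryTheory.Limits AlgebraicGeometry TensorProduct Module

noncomputable section

namespace Groth.GrassRep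

variable {R : Type u} [CommRing R] {M : Type u} [AddCommGroup M] [Module R M] {k : ℕ}

/-- an ideal-cut, hence Zariski-local, condition on points is a closed subscheme -/
theorem exists_closed_of_ideals (X : Over (Spec (CommRingCat.of R)))
    (Q : ∀ A : CommAlgCat.{u} R, (Pt A ⟶ X) → Prop)
    (hQ : ∀ (A : CommAlgCat.{u} R) (g : Pt A ⟶ X), ∃ I : Ideal A,
      ∀ (B : CommAlgCat.{u} R) (φ : A ⟶ B), Q B (ptMap φ ≫ g) ↔ I ≤ RingHom.ker φ.hom.toRingHom) :
    ∃ (Z : Over (Spec (CommRingCat.of R))) (c : Z ⟶ X), IsClosedImmersion c.left ∧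
      ∀ (A : CommAlgCat.{u} R) (g : Pt A ⟶ X),
        ((∃ z : Pt A ⟶ Z, z ≫ c = g) ↔ Q A g) := by
  have hmono : ∀ (A B : CommAlgCat.{u} R) (φ : A ⟶ B) (g : Pt A ⟶ X), Q A g → Q B (ptMap φ ≫ g) := by
    intro A B φ g hg
    obtain ⟨I, hI⟩ := hQ A g
    have := (hI A (𝟙 A)).mp (by rwa [ptMap_id, Category.id_comp])
    exact (hI B φ).mpr fun a ha => by
      have h0 : a = 0 := this ha
      rw [h0]
      exact map_zero φ.hom.toRingHom
  obtain ⟨Z, c, hc, hZ⟩ := Groth.Agf.exists_closedSubscheme X
    (fun T f => ∀ (A : CommAlgCat.{u} R) (h : Pt A ⟶ T), Q A (h ≫ f))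
    (fun T T' a f hf A h => by rw [← Category.assoc]; exact hf A (h ≫ a))
    (fun T f 𝒰 h A u => by
      obtain ⟨I, hI⟩ := hQ A (u ≫ f)
      suffices hI0 : I = ⊥ by
        have := (hI A (𝟙 A)).mpr (by rw [hI0]; exact bot_le)
        rwa [ptMap_id, Category.id_comp] at this
      refine eq_bot_iff.mpr fun b hb => ?_
      refine Submodule.mem_of_span_eq_top_of_smul_pow_mem (⊥ : Submodule A A)
        {a : A | ∃ (i : 𝒰.I₀), Set.range ((awayMap' a) ≫ u).left ⊆ Set.range (𝒰.f i)} ?_ b fun a => ?_
      · by_contra hne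
        obtain ⟨m, hm, hle⟩ := Ideal.exists_le_maximal _ hne
        let p : PrimeSpectrum A := ⟨m, hm.isPrime⟩
        obtain ⟨i, y, hy⟩ := 𝒰.exists_eq (u.left p)
        obtain ⟨_, ⟨a, rfl⟩, hpa, hsub⟩ := PrimeSpectrum.isTopologicalBasis_basic_opens.exists_subset_of_mem_open
          (show p ∈ u.left ⁻¹' Set.range (𝒰.f i) from ⟨y, hy⟩)
          ((𝒰.f i).opensRange.2.preimage u.left.continuous)
        refine hpa (hle (Ideal.subset_span ⟨i, ?_⟩))
        rintro _ ⟨q, rfl⟩
        have hq : (awayMap' a).left q ∈ (PrimeSpectrum.basicOpen a : Set (PrimeSpectrum A)) := by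
          rw [← PrimeSpectrum.localization_away_comap_range (Localization.Away a) a]
          exact ⟨q, rfl⟩
        exact hsub hq
      · obtain ⟨i, hi⟩ := a.2
        let l : Pt (CommAlgCat.of R (Localization.Away a.1)) ⟶ Over.mk (𝒰.f i ≫ T.hom) :=
          Over.homMk (IsOpenImmersion.lift (𝒰.f i) (awayMap' a.1 ≫ u).left hi) (by
            show IsOpenImmersion.lift _ _ _ ≫ 𝒰.f i ≫ T.hom = _
            rw [IsOpenImmersion.lift_fac_assoc]
            exact Over.w (awayMap' a.1 ≫ u))
        have hl := h i _ l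
        rw [← Category.assoc] at hl
        rw [show l ≫ (Over.homMk (𝒰.f i) rfl : Over.mk (𝒰.f i ≫ T.hom) ⟶ T) = awayMap' a.1 ≫ u from
          Over.OverMorphism.ext (IsOpenImmersion.lift_fac _ _ _), Category.assoc] at hl
        have h0 : algebraMap A (Localization.Away a.1) b = 0 := (hI _ _).mp hl hb
        obtain ⟨⟨_, n, rfl⟩, hn⟩ :=
          (IsLocalization.map_eq_zero_iff (Submonoid.powers a.1) (Localization.Away a.1) b).mp h0
        exact ⟨n, hn⟩)
    (fun V => by
      let _ : Algebra R Γ(X.left, V.1) := (Spec.preimage (V.2.fromSpec ≫ X.hom)).hom.toAlgebra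
      let A : CommAlgCat.{u} R := CommAlgCat.of R Γ(X.left, V.1)
      let g : Pt A ⟶ X := Over.homMk V.2.fromSpec (by
        show V.2.fromSpec ≫ X.hom = Spec.map (Spec.preimage (V.2.fromSpec ≫ X.hom))
        rw [Spec.map_preimage])
      obtain ⟨I, hI⟩ := hQ A g
      refine ⟨I, fun C φ f hf => ⟨fun hall => ?_, fun hle B h => ?_⟩⟩
      · let _ : Algebra R C := ((φ.hom).comp (algebraMap R Γ(X.left, V.1))).toAlgebra
        let B : CommAlgCat.{u} R := CommAlgCat.of R C
        let φA : A ⟶ B := CommAlgCat.ofHom { φ.hom with commutes' := fun r => rfl }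
        let w : Pt B ⟶ Over.mk (Spec.map φ ≫ V.2.fromSpec ≫ X.hom) := Over.homMk (𝟙 _) (by
          show 𝟙 _ ≫ Spec.map φ ≫ V.2.fromSpec ≫ X.hom = _
          rw [Category.id_comp]
          show _ = Spec.map (CommRingCat.ofHom (φ.hom.comp (Spec.preimage (V.2.fromSpec ≫ X.hom)).hom))
          rw [CommRingCat.ofHom_comp, Spec.map_comp]
          show _ = Spec.map φ ≫ Spec.map (Spec.preimage (V.2.fromSpec ≫ X.hom))
          rw [Spec.map_preimage])
        have hwf : w ≫ f = ptMap φA ≫ g := Over.OverMorphism.ext (by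
          show 𝟙 _ ≫ f.left = Spec.map φ ≫ V.2.fromSpec
          rw [Category.id_comp, hf])
        have := hall B w
        rw [hwf] at this
        exact (hI B φA).mp this
      · obtain ⟨χ, hχ⟩ : ∃ χ : C ⟶ CommRingCat.of B, Spec.map χ = h.left :=
          ⟨Spec.preimage h.left, Spec.map_preimage _⟩
        have hw := Over.w h
        rw [← hχ] at hw
        change Spec.map χ ≫ Spec.map φ ≫ V.2.fromSpec ≫ X.hom = Spec.map _ at hw
        rw [← Spec.map_preimage (V.2.fromSpec ≫ X.hom), ← Spec.map_comp, ← Spec.map_comp] at hw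
        have hw' := Spec.map_injective hw
        let φA : A ⟶ B := CommAlgCat.ofHom
          { χ.hom.comp φ.hom with commutes' := fun r => ConcreteCategory.congr_hom hw' r }
        have hwf : h ≫ f = ptMap φA ≫ g := Over.OverMorphism.ext (by
          show h.left ≫ f.left = _
          rw [← hχ, hf, ← Category.assoc, ← Spec.map_comp]
          rfl)
        rw [hwf]
        refine (hI B φA).mpr fun a ha => ?_
        show χ.hom (φ.hom a) = 0
        rw [show φ.hom a = 0 from hle ha, map_zero])
  refine ⟨Z, c, hc, fun A g => (hZ (Pt A) g).trans ⟨fun h => ?_, fun h B w => ?_⟩⟩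
  · have := h A (𝟙 _)
    rwa [Category.id_comp] at this
  · obtain ⟨φ, rfl⟩ := exists_ptMap w
    exact hmono A B φ g h

/-- a scheme with bijections compatible with base change to the points of the Grassmannian functor -/
abbrev Natural (X : Over (Spec (CommRingCat.of R)))
    (e : ∀ A : CommAlgCat.{u} R, (Pt A ⟶ X) ≃ (Grassmannian.functor (R := R) (M := M) k).obj A) : Prop :=
  ∀ (A B : CommAlgCat.{u} R) (φ : A ⟶ B) (g : Pt A ⟶ X) (g' : Pt B ⟶ X),
    g'.left = Spec.map (CommRingCat.ofHom φ.hom.toRingHom) ≫ g.left →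
      e B g' = (Grassmannian.functor (R := R) (M := M) k).map φ (e A g)

variable {X : Over (Spec (CommRingCat.of R))}
  {e : ∀ A : CommAlgCat.{u} R, (Pt A ⟶ X) ≃ (Grassmannian.functor (R := R) (M := M) k).obj A}

lemma Natural.apply (he : Natural X e) {A B : CommAlgCat.{u} R} (φ : A ⟶ B) (g : Pt A ⟶ X) :
    e B (ptMap φ ≫ g) = Grassmannian.map φ.hom (e A g) := by
  rw [he A B φ g (ptMap φ ≫ g) rfl, Grassmannian.functor_map]
  rfl

/-- a representing scheme is isomorphic to the glued Grassmannian -/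
theorem Natural.exists_iso (he : Natural X e) :
    ∃ c : grass R M k ≅ X, ∀ (A : CommAlgCat.{u} R) (g : Pt A ⟶ grass R M k),
      e A (g ≫ c.hom) = pts R M k A g := by
  obtain ⟨c, hc⟩ := exists_iso_of_pts (fun A => (pts R M k A).trans (e A).symm) fun A B φ g => by
    apply (e B).injective
    show e B ((e B).symm (pts R M k B (ptMap φ ≫ g))) = e B (ptMap φ ≫ (e A).symm (pts R M k A g))
    exact ((e B).apply_symm_apply _).trans ((pts_natural A B φ g).trans
      ((congrArg (Grassmannian.map φ.hom) ((e A).apply_symm_apply _)).symm.trans (he.apply φ _).symm))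
  exact ⟨c, fun A g => (congrArg (e A) (hc A g)).trans ((e A).apply_symm_apply _)⟩

/-- a condition on points of the Grassmannian functor cut out by ideals is a closed subscheme -/
theorem Natural.exists_closed (he : Natural X e)
    (Q : ∀ A : CommAlgCat.{u} R, Grassmannian A (A ⊗[R] M) k → Prop)
    (hQ : ∀ (A : CommAlgCat.{u} R) (N : Grassmannian A (A ⊗[R] M) k), ∃ I : Ideal A,
      ∀ (B : CommAlgCat.{u} R) (φ : A ⟶ B),
        Q B (Grassmannian.map φ.hom N) ↔ I ≤ RingHom.ker φ.hom.toRingHom) :
    ∃ (Z : Over (Spec (CommRingCat.of R))) (c : Z ⟶ X), IsClosedImmersion c.left ∧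
      ∀ (A : CommAlgCat.{u} R) (g : Pt A ⟶ X), ((∃ z : Pt A ⟶ Z, z ≫ c = g) ↔ Q A (e A g)) :=
  exists_closed_of_ideals X (fun A g => Q A (e A g)) fun A g => by
    obtain ⟨I, hI⟩ := hQ A (e A g)
    exact ⟨I, fun B φ => by rw [he.apply]; exact hI B φ⟩

end Groth.GrassRep
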