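import Groth.Agent.GrassRep.Basic
import Groth.Agent.GrassRep.Pts

/-!
# The Grassmannian scheme over an affine base

The charts of the Grassmannian of rank-`k` quotients of a module `M` (one for each `k`-tuple of
elements of `M`), their gluing, and the proof that the glued scheme represents the Grassmannian
functor on `R`-algebras.
-/

set_option autoImplicit false

universe u

open CategoryTheory CategoryTheory.Limits AlgebraicGeometry TensorProduct Module

noncomputable section

namespace Groth.GrassRep

section Rings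

variable {R : Type u} [CommRing R] {M : Type u} [AddCommGroup M] [Module R M] {k : ℕ}
variable {A : Type u} [CommRing A] [Algebra R A]

variable (R) in
/-- relations of the coordinate ring of a chart -/
def relSet (x : Fin k → M) : Set (MvPolynomial (M × Fin k) R) :=
  Set.range (fun p : M × M × Fin k =>
      MvPolynomial.X (p.1 + p.2.1, p.2.2) - MvPolynomial.X (p.1, p.2.2) - MvPolynomial.X (p.2.1, p.2.2)) ∪
    Set.range (fun p : R × M × Fin k =>
      MvPolynomial.X (p.1 • p.2.1, p.2.2) - MvPolynomial.C p.1 * MvPolynomial.X (p.2.1, p.2.2)) ∪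
    Set.range (fun p : Fin k × Fin k =>
      MvPolynomial.X (x p.1, p.2) - MvPolynomial.C (if p.2 = p.1 then 1 else 0))

variable (R) in
/-- the coordinate ring of the chart of `x` -/
abbrev P (x : Fin k → M) : Type u := MvPolynomial (M × Fin k) R ⧸ Ideal.span (relSet R x)

variable (R) in
/-- universal coordinates of a chart -/
def univMap (x : Fin k → M) : ChartMap R (P R x) x :=
  ⟨{ toFun := fun m i => Ideal.Quotient.mk _ (MvPolynomial.X (m, i))
     map_add' := fun m m' => funext fun i => by
      rw [Pi.add_apply, ← map_add, Ideal.Quotient.eq, ← sub_sub]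
      exact Ideal.subset_span (Or.inl (Or.inl ⟨(m, m', i), rfl⟩))
     map_smul' := fun r m => funext fun i => by
      rw [RingHom.id_apply, Pi.smul_apply, Algebra.smul_def,
        show algebraMap R (P R x) r = Ideal.Quotient.mk _ (MvPolynomial.C r) from rfl, ← map_mul, Ideal.Quotient.eq]
      exact Ideal.subset_span (Or.inl (Or.inr ⟨(r, m, i), rfl⟩)) },
    fun j => funext fun i => by
      show Ideal.Quotient.mk _ (MvPolynomial.X (x j, i)) = _
      rw [Pi.single_apply, show (if i = j then (1 : P R x) else 0) =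
        Ideal.Quotient.mk _ (MvPolynomial.C (if i = j then (1 : R) else 0)) by split <;> simp,
        Ideal.Quotient.eq]
      exact Ideal.subset_span (Or.inr ⟨(j, i), rfl⟩)⟩

/-- the map out of a chart ring given by coordinates -/
def chartHom {x : Fin k → M} (φ : ChartMap R A x) : P R x →ₐ[R] A :=
  Ideal.Quotient.liftₐ _ (MvPolynomial.aeval fun p => φ.1 p.1 p.2) fun a ha => by
    rw [← RingHom.mem_ker]
    refine Ideal.span_le.mpr ?_ ha
    rintro _ ((⟨⟨m, m', i⟩, rfl⟩ | ⟨⟨r, m, i⟩, rfl⟩) | ⟨⟨j, i⟩, rfl⟩)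
    · simp
    · simp [Algebra.smul_def]
    · simp only [SetLike.mem_coe, RingHom.mem_ker, map_sub, MvPolynomial.aeval_X, φ.2, Pi.single_apply]
      split <;> simp

lemma chartHom_univ {x : Fin k → M} (φ : ChartMap R A x) : (univMap R x).map (chartHom φ) = φ := by
  refine Subtype.ext (LinearMap.ext fun m => funext fun i => ?_)
  show chartHom φ (Ideal.Quotient.mk _ (MvPolynomial.X (m, i))) = _
  exact MvPolynomial.aeval_X (fun p : M × Fin k => φ.1 p.1 p.2) (m, i)

variable (R) in
/-- the universal point of a chart -/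
def uU (x : Fin k → M) : Grassmannian (P R x) (P R x ⊗[R] M) k := ofCoef (univMap R x)

lemma inChart_uU (x : Fin k → M) : InChart x (uU R x) := inChart_ofCoef _

lemma chart_ext {x : Fin k → M} (f g : P R x →ₐ[R] A)
    (h : Grassmannian.map f (uU R x) = Grassmannian.map g (uU R x)) : f = g := by
  refine Ideal.Quotient.algHom_ext R (MvPolynomial.algHom_ext fun p => ?_)
  rw [uU, map_ofCoef, map_ofCoef] at h
  have h' := congrArg Subtype.val (congrArg (chartEquiv (A := A) x)
    (Subtype.ext h : (⟨_, inChart_ofCoef ((univMap R x).map f)⟩ : {N // InChart x N}) =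
      ⟨_, inChart_ofCoef ((univMap R x).map g)⟩))
  change coef (inChart_ofCoef _) = coef (inChart_ofCoef _) at h'
  rw [coef_ofCoef, coef_ofCoef] at h'
  exact congrFun (LinearMap.congr_fun h' p.1) p.2

/-- the map out of a chart ring classifying a point of the chart -/
def toChart {x : Fin k → M} {N : Grassmannian A (A ⊗[R] M) k} (h : InChart x N) : P R x →ₐ[R] A :=
  chartHom ⟨coef h, coef_self h⟩

lemma map_toChart {x : Fin k → M} {N : Grassmannian A (A ⊗[R] M) k} (h : InChart x N) :
    Grassmannian.map (toChart h) (uU R x) = N := by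
  rw [uU, map_ofCoef, toChart, chartHom_univ]
  exact eq_of_coef (inChart_ofCoef _) h (coef_ofCoef _)

variable (R) in
/-- the determinant cutting out the overlap with the chart of `y` -/
def ovl (x y : Fin k → M) : P R x := dmat (univMap R x).1 y

variable (R) in
/-- the ring of an overlap -/
abbrev V (x y : Fin k → M) : Type u := Localization.Away (ovl R x y)

variable (R) in
/-- localisation to an overlap -/
abbrev loc (x y : Fin k → M) : P R x →ₐ[R] V R x y := IsScalarTower.toAlgHom R _ _

variable (R) in
/-- the universal point of an overlap -/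
def uV (x y : Fin k → M) : Grassmannian (V R x y) (V R x y ⊗[R] M) k :=
  Grassmannian.map (loc R x y) (uU R x)

lemma map_comp' {B C : Type u} [CommRing B] [Algebra R B] [CommRing C] [Algebra R C]
    (g : B →ₐ[R] C) (f : A →ₐ[R] B) (N : Grassmannian A (A ⊗[R] M) k) :
    Grassmannian.map (g.comp f) N = Grassmannian.map g (Grassmannian.map f N) :=
  Grassmannian.map_comp k f g N

lemma inChart_map_iff {x y : Fin k → M} (f : P R x →ₐ[R] A) :
    InChart y (Grassmannian.map f (uU R x)) ↔ IsUnit (f (ovl R x y)) := by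
  rw [inChart_iff_isUnit ((inChart_uU x).map f), ovl,
    map_dmat f (univMap R x).1 (coef ((inChart_uU x).map f)) fun m => by
      rw [coef_map (inChart_uU x)]
      show _ = f ∘ (univMap R x).1 m
      rw [show coef (inChart_uU x) = (univMap R x).1 from coef_ofCoef _]]

lemma inChart_uV_left (x y : Fin k → M) : InChart x (uV R x y) := (inChart_uU x).map _

lemma inChart_uV_right (x y : Fin k → M) : InChart y (uV R x y) :=
  (inChart_map_iff _).mpr (IsLocalization.Away.algebraMap_isUnit (S := V R x y) _)

lemma V_ext {x y : Fin k → M} (f g : V R x y →ₐ[R] A)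
    (h : Grassmannian.map f (uV R x y) = Grassmannian.map g (uV R x y)) : f = g := by
  rw [uV, ← map_comp', ← map_comp'] at h
  exact IsLocalization.algHom_ext (Submonoid.powers (ovl R x y)) (chart_ext _ _ h)

lemma exists_V_hom {x y : Fin k → M} {N : Grassmannian A (A ⊗[R] M) k} (hx : InChart x N)
    (hy : InChart y N) : ∃ g : V R x y →ₐ[R] A, Grassmannian.map g (uV R x y) = N := by
  have hu : IsUnit (toChart hx (ovl R x y)) := (inChart_map_iff _).mp (by rwa [map_toChart])
  let g : V R x y →ₐ[R] A := IsLocalization.liftAlgHom (M := Submonoid.powers (ovl R x y))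
    (f := toChart hx) (by
      rintro ⟨_, n, rfl⟩
      rw [map_pow]
      exact hu.pow n)
  refine ⟨g, ?_⟩
  rw [uV, ← map_comp']
  convert map_toChart hx using 2
  exact AlgHom.ext fun a => IsLocalization.lift_eq _ a

variable (R) in
/-- the transition map of overlaps -/
def tau (x y : Fin k → M) : V R y x →ₐ[R] V R x y :=
  (exists_V_hom (inChart_uV_right (R := R) x y) (inChart_uV_left x y)).choose

lemma map_tau (x y : Fin k → M) : Grassmannian.map (tau R x y) (uV R y x) = uV R x y :=
  (exists_V_hom (inChart_uV_right (R := R) x y) (inChart_uV_left x y)).choose_spec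

lemma tau_self (x : Fin k → M) : tau R x x = AlgHom.id R (V R x x) :=
  V_ext _ _ (by rw [map_tau, map_id'])

variable (R) in
/-- the ring of a triple overlap -/
abbrev W (x y z : Fin k → M) : Type u := V R x y ⊗[P R x] V R x z

variable (R) in
/-- first projection from a triple overlap -/
abbrev wl (x y z : Fin k → M) : V R x y →ₐ[R] W R x y z := Algebra.TensorProduct.includeLeft

variable (R) in
/-- second projection from a triple overlap -/
abbrev wr (x y z : Fin k → M) : V R x z →ₐ[R] W R x y z :=
  Algebra.TensorProduct.includeRight.restrictScalars R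

variable (R) in
/-- the universal point of a triple overlap -/
def uW (x y z : Fin k → M) : Grassmannian (W R x y z) (W R x y z ⊗[R] M) k :=
  Grassmannian.map (wl R x y z) (uV R x y)

lemma map_wr (x y z : Fin k → M) : Grassmannian.map (wr R x y z) (uV R x z) = uW R x y z := by
  rw [uW, uV, uV, ← map_comp', ← map_comp']
  congr 1
  refine AlgHom.ext fun a => ?_
  show (1 : V R x y) ⊗ₜ[P R x] algebraMap (P R x) (V R x z) a =
    algebraMap (P R x) (V R x y) a ⊗ₜ[P R x] (1 : V R x z)
  rw [Algebra.algebraMap_eq_smul_one, Algebra.algebraMap_eq_smul_one, TensorProduct.smul_tmul]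

lemma W_ext {x y z : Fin k → M} (f g : W R x y z →ₐ[R] A)
    (h : Grassmannian.map f (uW R x y z) = Grassmannian.map g (uW R x y z)) : f = g := by
  have hl : f.comp (wl R x y z) = g.comp (wl R x y z) := V_ext _ _ (by rwa [map_comp', map_comp'])
  have hr : f.comp (wr R x y z) = g.comp (wr R x y z) :=
    V_ext _ _ (by rwa [map_comp', map_comp', map_wr])
  refine AlgHom.ext fun w => ?_
  induction w using TensorProduct.induction_on with
  | zero => simp
  | tmul a b =>
    have h1 : (a ⊗ₜ[P R x] b : W R x y z) = wl R x y z a * wr R x y z b := by simp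
    rw [h1, map_mul, map_mul]
    exact congrArg₂ (· * ·) (AlgHom.congr_fun hl a) (AlgHom.congr_fun hr b)
  | add a b ha hb => rw [map_add, map_add, ha, hb]

lemma exists_W_hom {x y z : Fin k → M} {N : Grassmannian A (A ⊗[R] M) k} (hx : InChart x N)
    (hy : InChart y N) (hz : InChart z N) :
    ∃ g : W R x y z →ₐ[R] A, Grassmannian.map g (uW R x y z) = N := by
  obtain ⟨gy, hgy⟩ := exists_V_hom hx hy
  obtain ⟨gz, hgz⟩ := exists_V_hom hx hz
  have e1 : gy.comp (loc R x y) = toChart hx := chart_ext _ _ (by
    rw [map_comp', map_toChart]; exact hgy)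
  have e2 : gz.comp (loc R x z) = toChart hx := chart_ext _ _ (by
    rw [map_comp', map_toChart]; exact hgz)
  let _ : Algebra (P R x) A := (toChart hx).toRingHom.toAlgebra
  have _ : IsScalarTower R (P R x) A := IsScalarTower.of_algebraMap_eq fun r => ((toChart hx).commutes r).symm
  have _ : IsScalarTower (P R x) (P R x) A :=
    ⟨fun a b c => by simp only [Algebra.smul_def, smul_eq_mul, map_mul, mul_assoc]⟩
  let gy' : V R x y →ₐ[P R x] A := { gy.toRingHom with commutes' := fun a => AlgHom.congr_fun e1 a }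
  let gz' : V R x z →ₐ[P R x] A := { gz.toRingHom with commutes' := fun a => AlgHom.congr_fun e2 a }
  refine ⟨(Algebra.TensorProduct.lift gy' gz' fun _ _ => Commute.all _ _).restrictScalars R, ?_⟩
  rw [uW, ← map_comp']
  convert hgy using 2
  refine AlgHom.ext fun a => ?_
  show gy a * gz 1 = gy a
  rw [map_one, mul_one]

lemma inChart_uW (x y z : Fin k → M) :
    InChart x (uW R x y z) ∧ InChart y (uW R x y z) ∧ InChart z (uW R x y z) :=
  ⟨(inChart_uV_left x y).map _, (inChart_uV_right x y).map _,
    map_wr (R := R) x y z ▸ (inChart_uV_right x z).map _⟩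

variable (R) in
/-- the transition map of triple overlaps -/
def omega (x y z : Fin k → M) : W R y z x →ₐ[R] W R x y z :=
  (exists_W_hom (inChart_uW (R := R) x y z).2.1 (inChart_uW x y z).2.2 (inChart_uW x y z).1).choose

lemma map_omega (x y z : Fin k → M) : Grassmannian.map (omega R x y z) (uW R y z x) = uW R x y z :=
  (exists_W_hom (inChart_uW (R := R) x y z).2.1 (inChart_uW x y z).2.2 (inChart_uW x y z).1).choose_spec

lemma omega_fac (x y z : Fin k → M) :
    (omega R x y z).comp (wr R y z x) = (wl R x y z).comp (tau R x y) :=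
  V_ext _ _ (by rw [map_comp', map_comp', map_wr, map_omega, map_tau]; rfl)

lemma omega_cocycle (x y z : Fin k → M) :
    (omega R x y z).comp ((omega R y z x).comp (omega R z x y)) = AlgHom.id R _ :=
  W_ext _ _ (by rw [map_comp', map_comp', map_omega, map_omega, map_omega, map_id'])

end Rings

section Scheme

variable (R : Type u) [CommRing R] (M : Type u) [AddCommGroup M] [Module R M] (k : ℕ)

/-- `Spec` of an algebra map -/
abbrev sp {A B : Type u} [CommRing A] [Algebra R A] [CommRing B] [Algebra R B] (f : A →ₐ[R] B) :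
    Spec (CommRingCat.of B) ⟶ Spec (CommRingCat.of A) :=
  Spec.map (CommRingCat.ofHom f.toRingHom)

lemma sp_comp {A B C : Type u} [CommRing A] [Algebra R A] [CommRing B] [Algebra R B] [CommRing C]
    [Algebra R C] (g : B →ₐ[R] C) (f : A →ₐ[R] B) : sp R (g.comp f) = sp R g ≫ sp R f := by
  rw [← Spec.map_comp, ← CommRingCat.ofHom_comp]
  rfl

lemma sp_id {A : Type u} [CommRing A] [Algebra R A] : sp R (AlgHom.id R A) = 𝟙 _ :=
  Spec.map_id _

/-- the triple overlap as a scheme -/
def wIso (x y z : Fin k → M) :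
    pullback (Spec.map (CommRingCat.ofHom (algebraMap (P R x) (V R x y))))
      (Spec.map (CommRingCat.ofHom (algebraMap (P R x) (V R x z)))) ≅
      Spec (CommRingCat.of (W R x y z)) :=
  pullbackSpecIso (P R x) (V R x y) (V R x z)

/-- the gluing datum of the Grassmannian -/
def glueData : Scheme.GlueData.{u} where
  J := Fin k → M
  U x := Spec (CommRingCat.of (P R x))
  V p := Spec (CommRingCat.of (V R p.1 p.2))
  f x y := Spec.map (CommRingCat.ofHom (algebraMap (P R x) (V R x y)))
  f_id x := by
    have hu : ovl R x x = 1 := dmat_self _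
    have hb : Function.Bijective (algebraMap (P R x) (V R x x)) :=
      (IsLocalization.atUnits (P R x) (Submonoid.powers (ovl R x x))
        (fun a ha => by
          obtain ⟨n, rfl⟩ := ha
          simp [hu])).bijective
    have : IsIso (CommRingCat.ofHom (algebraMap (P R x) (V R x x))) :=
      (ConcreteCategory.isIso_iff_bijective _).mpr hb
    infer_instance
  t x y := sp R (tau R x y)
  t_id x := by rw [tau_self, sp_id]
  t' x y z := (wIso R M k x y z).hom ≫ sp R (omega R x y z) ≫ (wIso R M k y z x).inv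
  t_fac x y z := by
    dsimp only
    simp only [Category.assoc, wIso, pullbackSpecIso_inv_snd]
    rw [← cancel_epi (pullbackSpecIso (P R x) (V R x y) (V R x z)).inv, Iso.inv_hom_id_assoc,
      pullbackSpecIso_inv_fst_assoc]
    show sp R (omega R x y z) ≫ sp R (wr R y z x) = sp R (wl R x y z) ≫ sp R (tau R x y)
    rw [← sp_comp, ← sp_comp, omega_fac]
  cocycle x y z := by
    simp only [Category.assoc, Iso.inv_hom_id_assoc]
    rw [← Category.assoc (sp R (omega R y z x)), ← sp_comp, ← Category.assoc (sp R (omega R x y z)),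
      ← sp_comp,
      omega_cocycle, sp_id, Category.id_comp, Iso.hom_inv_id]
  f_open x y := inferInstanceAs (IsOpenImmersion (Spec.map _))

end Scheme

section Cover

variable {R : Type u} [CommRing R]

/-- `Spec A_a ⟶ Spec A` over `Spec R` -/
abbrev awayMap' {A : CommAlgCat.{u} R} (a : A) :
    Pt (CommAlgCat.of R (Localization.Away a)) ⟶ Pt A :=
  ptMap (CommAlgCat.ofHom (IsScalarTower.toAlgHom R A (Localization.Away a)))

lemma exists_mem_range_away {A : CommAlgCat.{u} R} {t : Set A} (ht : Ideal.span t = ⊤)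
    (p : PrimeSpectrum A) : ∃ a : t, p ∈ Set.range (awayMap' a.1).left := by
  obtain ⟨a, ha⟩ : ∃ a : t, a.1 ∉ p.asIdeal := by
    by_contra hall
    push Not at hall
    exact p.isPrime.ne_top (top_unique (ht ▸ Ideal.span_le.mpr fun a ha => hall ⟨a, ha⟩))
  refine ⟨a, ?_⟩
  have : p ∈ Set.range (PrimeSpectrum.comap (algebraMap A (Localization.Away a.1))) := by
    rw [PrimeSpectrum.localization_away_comap_range (Localization.Away a.1) a.1]
    exact ha
  exact this

instance isOpenImmersion_awayMap' {A : CommAlgCat.{u} R} (a : A) : IsOpenImmersion (awayMap' a).left :=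
  IsOpenImmersion.of_isLocalization a (S := Localization.Away a)

lemma hom_ext_away {A : CommAlgCat.{u} R} {Y : Over (Spec (CommRingCat.of R))} {t : Set A}
    (ht : Ideal.span t = ⊤) (g g' : Pt A ⟶ Y)
    (h : ∀ a ∈ t, awayMap' a ≫ g = awayMap' a ≫ g') : g = g' := by
  refine Over.OverMorphism.ext
    (Scheme.Cover.hom_ext (coverOf (fun a : t => (awayMap' a.1).left) (exists_mem_range_away ht)) _ _
      fun a => ?_)
  exact congrArg CommaMorphism.left (h a.1 a.2)

end Cover

section Rep

variable (R : Type u) [CommRing R] (M : Type u) [AddCommGroup M] [Module R M] (k : ℕ)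

variable {M k} in
/-- a chart ring as an object of `CommAlgCat` -/
abbrev Pc (x : Fin k → M) : CommAlgCat.{u} R := CommAlgCat.of R (P R x)

variable {R M k} in
lemma ptMap_w {A B : Type u} [CommRing A] [Algebra R A] [CommRing B] [Algebra R B] (f : A →ₐ[R] B) :
    sp R f ≫ Spec.map (CommRingCat.ofHom (algebraMap R A)) = Spec.map (CommRingCat.ofHom (algebraMap R B)) := by
  rw [← Spec.map_comp, ← CommRingCat.ofHom_comp]
  exact congrArg (fun g => Spec.map (CommRingCat.ofHom g)) f.comp_algebraMap

/-- the structure morphism of the glued Grassmannian -/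
def toBase : (glueData R M k).glued ⟶ Spec (CommRingCat.of R) :=
  Multicoequalizer.desc _ _ (fun x => Spec.map (CommRingCat.ofHom (algebraMap R (P R x)))) fun p => by
    obtain ⟨x, y⟩ := p
    exact (ptMap_w (loc R x y)).trans (((ptMap_w (tau R x y)).symm.trans
      (congrArg (sp R (tau R x y) ≫ ·) (ptMap_w (loc R y x)).symm)).trans (Category.assoc _ _ _).symm)

/-- the Grassmannian of rank `k` quotients of `M` -/
def grass : Over (Spec (CommRingCat.of R)) := Over.mk (toBase R M k)

/-- a chart of the Grassmannian -/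
def jj (x : Fin k → M) : Pt (Pc R x) ⟶ grass R M k :=
  Over.homMk ((glueData R M k).ι x) (Multicoequalizer.π_desc _ _ _ _ _)

variable {R M k}

instance isOpenImmersion_jj (x : Fin k → M) : IsOpenImmersion (jj R M k x).left :=
  (glueData R M k).ι_isOpenImmersion x

lemma exists_mem_range_jj (t : (grass R M k).left) : ∃ x, t ∈ Set.range (jj R M k x).left := by
  obtain ⟨x, y, hy⟩ := (glueData R M k).ι_jointly_surjective t
  exact ⟨x, y, hy⟩

lemma jj_comm (x y : Fin k → M) :
    (ptMap (CommAlgCat.ofHom ((tau R x y).comp (loc R y x))) ≫ jj R M k y :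
      Pt (CommAlgCat.of R (V R x y)) ⟶ grass R M k) =
      ptMap (CommAlgCat.ofHom (loc R x y)) ≫ jj R M k x := by
  refine Over.OverMorphism.ext ?_
  show sp R ((tau R x y).comp (loc R y x)) ≫ (glueData R M k).ι y = sp R (loc R x y) ≫ (glueData R M k).ι x
  rw [sp_comp, Category.assoc]
  exact (glueData R M k).glue_condition x y

theorem jj_eq_iff {A : CommAlgCat.{u} R} {x y : Fin k → M} (a : P R x →ₐ[R] A) (b : P R y →ₐ[R] A) :
    ptMap (CommAlgCat.ofHom a) ≫ jj R M k x = ptMap (CommAlgCat.ofHom b) ≫ jj R M k y ↔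
      Grassmannian.map a (uU R x) = Grassmannian.map b (uU R y) := by
  constructor
  · intro h
    have h' : sp R a ≫ (glueData R M k).ι x = sp R b ≫ (glueData R M k).ι y := congrArg CommaMorphism.left h
    obtain ⟨l, hl1, hl2⟩ := PullbackCone.IsLimit.lift' ((glueData R M k).vPullbackConeIsLimit x y) _ _ h'
    obtain ⟨χ, hχ⟩ : ∃ χ : CommRingCat.of (V R x y) ⟶ CommRingCat.of A, Spec.map χ = l :=
      ⟨Spec.preimage l, Spec.map_preimage _⟩
    subst hχ
    replace hl1 : Spec.map χ ≫ sp R (loc R x y) = sp R a := hl1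
    replace hl2 : Spec.map χ ≫ sp R (tau R x y) ≫ sp R (loc R y x) = sp R b := hl2
    rw [← sp_comp] at hl2
    rw [← Spec.map_comp] at hl1 hl2
    have e1 := congrArg CommRingCat.Hom.hom (Spec.map_injective hl1)
    have e2 := congrArg CommRingCat.Hom.hom (Spec.map_injective hl2)
    let g : V R x y →ₐ[R] A :=
      { χ.hom with
        commutes' := fun r => by
          show χ.hom (algebraMap R (V R x y) r) = algebraMap R A r
          rw [IsScalarTower.algebraMap_apply R (P R x) (V R x y)]
          exact (RingHom.congr_fun e1 (algebraMap R (P R x) r)).trans (a.commutes r) }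
    have g1 : g.comp (loc R x y) = a := AlgHom.ext fun c => RingHom.congr_fun e1 c
    have g2 : g.comp ((tau R x y).comp (loc R y x)) = b := AlgHom.ext fun c => RingHom.congr_fun e2 c
    rw [← g1, ← g2, map_comp', map_comp', map_comp']
    congr 1
    exact (map_tau x y).symm
  · intro h
    have hx : InChart x (Grassmannian.map a (uU R x)) := (inChart_uU x).map a
    have hy : InChart y (Grassmannian.map a (uU R x)) := h ▸ (inChart_uU y).map b
    obtain ⟨g, hg⟩ := exists_V_hom hx hy
    have g1 : g.comp (loc R x y) = a := chart_ext _ _ (by rw [map_comp']; exact hg)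
    have g2 : g.comp ((tau R x y).comp (loc R y x)) = b := chart_ext _ _ (by
      rw [map_comp', map_comp', ← uV, map_tau, hg, h])
    rw [← g1, ← g2, CommAlgCat.ofHom_comp, CommAlgCat.ofHom_comp, ptMap_comp, ptMap_comp,
      Category.assoc, Category.assoc]
    exact congrArg (_ ≫ ·) (jj_comm x y).symm

/-- `N` is the point of the Grassmannian functor of the morphism `g` -/
def IsPoint {A : CommAlgCat.{u} R} (N : Grassmannian A (A ⊗[R] M) k) (g : Pt A ⟶ grass R M k) : Prop :=
  ∀ (B : CommAlgCat.{u} R) (φ : A ⟶ B) (x : Fin k → M) (a : P R x →ₐ[R] B),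
    ptMap φ ≫ g = ptMap (CommAlgCat.ofHom a) ≫ jj R M k x →
      Grassmannian.map φ.hom N = Grassmannian.map a (uU R x)

lemma IsPoint.map {A B : CommAlgCat.{u} R} {N : Grassmannian A (A ⊗[R] M) k} {g : Pt A ⟶ grass R M k}
    (h : IsPoint N g) (φ : A ⟶ B) : IsPoint (Grassmannian.map φ.hom N) (ptMap φ ≫ g) := by
  intro C ψ x a hC
  rw [← map_comp']
  exact h C (φ ≫ ψ) x a (by rw [ptMap_comp, Category.assoc]; exact hC)

lemma span_factorSet {A : CommAlgCat.{u} R} (g : Pt A ⟶ grass R M k) :
    Ideal.span {a : A | ∃ (x : Fin k → M) (c : P R x →ₐ[R] Localization.Away a),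
      awayMap' a ≫ g = ptMap (CommAlgCat.ofHom c) ≫ jj R M k x} = ⊤ := by
  by_contra hne
  obtain ⟨m, hm, hle⟩ := Ideal.exists_le_maximal _ hne
  let p : PrimeSpectrum A := ⟨m, hm.isPrime⟩
  obtain ⟨x, hx⟩ := exists_mem_range_jj (g.left p)
  obtain ⟨_, ⟨a, rfl⟩, hpa, hsub⟩ := PrimeSpectrum.isTopologicalBasis_basic_opens.exists_subset_of_mem_open
    (show p ∈ g.left ⁻¹' Set.range (jj R M k x).left from hx)
    ((jj R M k x).left.opensRange.2.preimage g.left.continuous)
  refine hpa (hle (Ideal.subset_span ?_))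
  have hr : Set.range (awayMap' a ≫ g).left ⊆ Set.range (jj R M k x).left := by
    rintro _ ⟨q, rfl⟩
    have hq : (awayMap' a).left q ∈ (PrimeSpectrum.basicOpen a : Set (PrimeSpectrum A)) := by
      rw [← PrimeSpectrum.localization_away_comap_range (Localization.Away a) a]
      exact ⟨q, rfl⟩
    exact hsub hq
  let l : Pt (CommAlgCat.of R (Localization.Away a)) ⟶ Pt (Pc R x) :=
    Over.homMk (IsOpenImmersion.lift (jj R M k x).left (awayMap' a ≫ g).left hr) (by
      rw [← Over.w (jj R M k x), ← Category.assoc, IsOpenImmersion.lift_fac]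
      exact Over.w (awayMap' a ≫ g))
  obtain ⟨c, hc⟩ := exists_ptMap l
  exact ⟨x, c.hom, Over.OverMorphism.ext (by
    show (awayMap' a ≫ g).left = (ptMap c).left ≫ (jj R M k x).left
    rw [← hc]
    exact (IsOpenImmersion.lift_fac _ _ _).symm)⟩

lemma exists_isPoint {A : CommAlgCat.{u} R} (g : Pt A ⟶ grass R M k) :
    ∃ N, IsPoint N g := by
  obtain ⟨t, htT, ht⟩ := (Ideal.span_eq_top_iff_finite _).mp (span_factorSet g)
  choose x c hc using fun a : t => htT a.2
  obtain ⟨N, hN⟩ := exists_glue_points t ht (fun a => Grassmannian.map (c a) (uU R (x a))) (by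
    intro a b B _ _ f f' hff'
    rw [← map_comp', ← map_comp']
    refine (jj_eq_iff (A := CommAlgCat.of R B) _ _).mp ?_
    rw [CommAlgCat.ofHom_comp, CommAlgCat.ofHom_comp, ptMap_comp, ptMap_comp, Category.assoc,
      Category.assoc, ← hc, ← hc, awayMap', awayMap', ← Category.assoc, ← Category.assoc, ← ptMap_comp,
      ← ptMap_comp, ← CommAlgCat.ofHom_comp, ← CommAlgCat.ofHom_comp, hff'])
  refine ⟨N, fun B φ y b hb => ?_⟩
  refine eq_of_span (t := φ.hom '' (t : Set A)) ?_ _ _ ?_
  · rw [show φ.hom '' (t : Set A) = φ.hom.toRingHom '' (t : Set A) from rfl, ← Ideal.map_span, ht,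
      Ideal.map_top]
  rintro _ ⟨a, ha, rfl⟩
  let fB : B →ₐ[R] Localization.Away (φ.hom a) := IsScalarTower.toAlgHom R B _
  let f : Localization.Away a →ₐ[R] Localization.Away (φ.hom a) :=
    IsLocalization.liftAlgHom (M := Submonoid.powers a) (f := fB.comp φ.hom) (by
      rintro ⟨_, n, rfl⟩
      rw [map_pow]
      exact (IsLocalization.Away.algebraMap_isUnit (S := Localization.Away (φ.hom a)) (φ.hom a)).pow n)
  have hf : f.comp (IsScalarTower.toAlgHom R A _) = fB.comp φ.hom :=
    AlgHom.ext fun z => IsLocalization.lift_eq _ z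
  rw [← map_comp', ← map_comp', ← hf, map_comp', hN ⟨a, ha⟩, ← map_comp']
  refine (jj_eq_iff (A := CommAlgCat.of R (Localization.Away (φ.hom a))) _ _).mp ?_
  rw [CommAlgCat.ofHom_comp, CommAlgCat.ofHom_comp, ptMap_comp, ptMap_comp, Category.assoc,
    Category.assoc, ← hb, ← hc ⟨a, ha⟩, awayMap', ← Category.assoc, ← Category.assoc, ← ptMap_comp,
    ← ptMap_comp]
  exact congrArg (fun z => ptMap z ≫ g) (CommAlgCat.hom_ext hf)

lemma IsPoint.eq {A : CommAlgCat.{u} R} {N N' : Grassmannian A (A ⊗[R] M) k} {g : Pt A ⟶ grass R M k}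
    (h : IsPoint N g) (h' : IsPoint N' g) : N = N' := by
  refine eq_of_span (span_factorSet g) _ _ fun a ⟨x, c, hc⟩ => ?_
  let φ : A ⟶ CommAlgCat.of R (Localization.Away a) :=
    CommAlgCat.ofHom (IsScalarTower.toAlgHom R A (Localization.Away a))
  exact (h _ φ x c hc).trans (h' _ φ x c hc).symm

lemma IsPoint.factor {A : CommAlgCat.{u} R} {N : Grassmannian A (A ⊗[R] M) k} {g : Pt A ⟶ grass R M k}
    (h : IsPoint N g) {x : Fin k → M} (hx : InChart x N) :
    g = ptMap (CommAlgCat.ofHom (toChart hx)) ≫ jj R M k x := by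
  refine hom_ext_away (span_factorSet g) _ _ fun a ⟨y, c, hc⟩ => ?_
  rw [hc, awayMap', ← Category.assoc, ← ptMap_comp, ← CommAlgCat.ofHom_comp]
  refine (jj_eq_iff (A := CommAlgCat.of R (Localization.Away a)) _ _).mpr ?_
  rw [map_comp', map_toChart]
  exact (h _ (CommAlgCat.ofHom (IsScalarTower.toAlgHom R A (Localization.Away a))) y c hc).symm

lemma exists_hom_isPoint {A : CommAlgCat.{u} R} (N : Grassmannian A (A ⊗[R] M) k) :
    ∃ g : Pt A ⟶ grass R M k, IsPoint N g := by
  have hspan := span_goodElements N (s := (Set.univ : Set M)) (by simp)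
  set T := {a : A | ∃ x : Fin k → M, (∀ i, x i ∈ (Set.univ : Set M)) ∧
    ∀ (B : Type u) [CommRing B] [Algebra R B] (f : A →ₐ[R] B), IsUnit (f a) →
      InChart x (Grassmannian.map f N)}
  choose x hxs hx using fun a : T => a.2
  let fa : ∀ a : T, A →ₐ[R] Localization.Away a.1 := fun a => IsScalarTower.toAlgHom R A _
  have hch : ∀ a : T, InChart (x a) (Grassmannian.map (fa a) N) := fun a =>
    hx a _ (fa a) (IsLocalization.Away.algebraMap_isUnit (S := Localization.Away a.1) a.1)
  obtain ⟨g, hg⟩ := exists_glue (fun a : T => awayMap' a.1) (exists_mem_range_away hspan)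
    (fun a : T => ptMap (CommAlgCat.ofHom (toChart (hch a))) ≫ jj R M k (x a)) (by
    intro a b B u v huv
    obtain ⟨φ, rfl⟩ := exists_ptMap u
    obtain ⟨ψ, rfl⟩ := exists_ptMap v
    rw [← Category.assoc, ← Category.assoc, ← ptMap_comp, ← ptMap_comp]
    refine (jj_eq_iff (φ.hom.comp (toChart (hch a))) (ψ.hom.comp (toChart (hch b)))).mpr ?_
    rw [map_comp', map_comp', map_toChart, map_toChart, ← map_comp', ← map_comp']
    rw [awayMap', awayMap', ← ptMap_comp, ← ptMap_comp] at huv
    congr 1
    refine AlgHom.ext fun z => ?_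
    exact RingHom.congr_fun (congrArg CommRingCat.Hom.hom
      (Spec.map_injective (congrArg CommaMorphism.left huv))) z)
  refine ⟨g, fun B φ y b hb => ?_⟩
  refine eq_of_span (t := φ.hom '' T) ?_ _ _ ?_
  · rw [show φ.hom '' T = φ.hom.toRingHom '' T from rfl, ← Ideal.map_span, hspan, Ideal.map_top]
  rintro _ ⟨a, ha, rfl⟩
  let fB : B →ₐ[R] Localization.Away (φ.hom a) := IsScalarTower.toAlgHom R B _
  let f : Localization.Away a →ₐ[R] Localization.Away (φ.hom a) :=
    IsLocalization.liftAlgHom (M := Submonoid.powers a) (f := fB.comp φ.hom) (by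
      rintro ⟨_, n, rfl⟩
      rw [map_pow]
      exact (IsLocalization.Away.algebraMap_isUnit (S := Localization.Away (φ.hom a)) (φ.hom a)).pow n)
  have hf : f.comp (fa ⟨a, ha⟩) = fB.comp φ.hom := AlgHom.ext fun z => IsLocalization.lift_eq _ z
  rw [← map_comp', ← map_comp', ← hf, map_comp', ← map_toChart (hch ⟨a, ha⟩), ← map_comp']
  refine (jj_eq_iff (A := CommAlgCat.of R (Localization.Away (φ.hom a))) _ _).mp ?_
  rw [CommAlgCat.ofHom_comp, CommAlgCat.ofHom_comp, ptMap_comp, ptMap_comp, Category.assoc,
    Category.assoc, ← hb, ← hg ⟨a, ha⟩, awayMap', ← Category.assoc, ← Category.assoc, ← ptMap_comp,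
    ← ptMap_comp]
  exact congrArg (fun z => ptMap z ≫ g) (CommAlgCat.hom_ext hf)

lemma IsPoint.hom_eq {A : CommAlgCat.{u} R} {N : Grassmannian A (A ⊗[R] M) k} {g g' : Pt A ⟶ grass R M k}
    (h : IsPoint N g) (h' : IsPoint N g') : g = g' := by
  refine hom_ext_away (span_goodElements N (s := (Set.univ : Set M)) (by simp)) _ _ ?_
  rintro a ⟨x, _, hx⟩
  have hc : InChart x (Grassmannian.map (IsScalarTower.toAlgHom R A (Localization.Away a)) N) :=
    hx _ _ (IsLocalization.Away.algebraMap_isUnit (S := Localization.Away a) a)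
  exact ((h.map (CommAlgCat.ofHom (IsScalarTower.toAlgHom R A (Localization.Away a)))).factor hc).trans
    ((h'.map (CommAlgCat.ofHom (IsScalarTower.toAlgHom R A (Localization.Away a)))).factor hc).symm

variable (R M k) in
/-- points of the Grassmannian -/
def pts (A : CommAlgCat.{u} R) : (Pt A ⟶ grass R M k) ≃ Grassmannian A (A ⊗[R] M) k where
  toFun g := (exists_isPoint g).choose
  invFun N := (exists_hom_isPoint N).choose
  left_inv g := (exists_hom_isPoint _).choose_spec.hom_eq (exists_isPoint g).choose_spec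
  right_inv N := (exists_isPoint _).choose_spec.eq (exists_hom_isPoint N).choose_spec

theorem pts_natural (A B : CommAlgCat.{u} R) (φ : A ⟶ B) (g : Pt A ⟶ grass R M k) :
    pts R M k B (ptMap φ ≫ g) = Grassmannian.map φ.hom (pts R M k A g) :=
  (exists_isPoint _).choose_spec.eq ((exists_isPoint g).choose_spec.map φ)

lemma pts_jj (x : Fin k → M) : pts R M k (Pc R x) (jj R M k x) = uU R x := by
  have h := (exists_isPoint (jj R M k x)).choose_spec (Pc R x) (𝟙 _) x (AlgHom.id R _)
    (by rw [ptMap_id]; exact congrArg (· ≫ jj R M k x) (ptMap_id (Pc R x)).symm)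
  rwa [show (𝟙 (Pc R x) : Pc R x ⟶ _).hom = AlgHom.id R _ from rfl, map_id', map_id'] at h

end Rep

end Groth.GrassRep
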