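import Groth.Agent.GrassRep.Plucker
import Groth.Agent.GrassRep.Stable

/-!
# The Plücker embedding for a free module of finite rank
-/

set_option autoImplicit false

universe u

open CategoryTheory CategoryTheory.Limits AlgebraicGeometry TensorProduct Module

noncomputable section

namespace Groth.GrassRep

variable {R : Type u} [CommRing R] {M₁ M₂ : Type u} [AddCommGroup M₁] [Module R M₁]
  [AddCommGroup M₂] [Module R M₂] {k : ℕ}

/-- points of the Grassmannian of isomorphic modules -/
def congrPoint (v : M₁ ≃ₗ[R] M₂) (A : Type u) [CommRing A] [Algebra R A] :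
    Grassmannian A (A ⊗[R] M₂) k ≃ Grassmannian A (A ⊗[R] M₁) k :=
  Equiv.ofBijective (comapPoint v.toLinearMap v.surjective)
    ⟨comapPoint_injective _ _, fun N => exists_comapPoint _ _ N fun m hm => by
      rw [v.injective (hm.trans (map_zero v).symm), TensorProduct.tmul_zero]
      exact zero_mem _⟩

theorem exists_plucker_of_equiv {n : ℕ} (hk : k ≤ n) (v : (Fin n → R) ≃ₗ[R] M₂)
    {X : Over (Spec (CommRingCat.of R))}
    {e : ∀ A : CommAlgCat.{u} R, (Pt A ⟶ X) ≃ (Grassmannian.functor (R := R) (M := M₂) k).obj A}
    (he : Natural X e) :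
    ∃ c : X.left ⟶ CohB1.ProjSpaceOver (n.choose k - 1) (Spec (CommRingCat.of R)),
      IsClosedImmersion c ∧
        c ≫ CohB1.ProjSpaceOver.toBase (n.choose k - 1) (Spec (CommRingCat.of R)) = X.hom :=
  exists_plucker (e := fun A => (e A).trans (congrPoint v A)) hk fun A B φ g g' h => by
    obtain rfl := (left_eq_iff φ g g').mp h
    exact (congrArg (congrPoint v B) (he.apply φ g)).trans
      (map_comapPoint v.toLinearMap v.surjective φ.hom (e A g)).symm

end Groth.GrassRep
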